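import Cfsg.Agent.Lib.Mathieu.IndexSub.SylowOrbits

/-!
Fixed points of elements of order 5, 7, 11 in `M24`, and point orbits of subgroups of `M24`.
-/

set_option autoImplicit false
set_option maxRecDepth 20000

namespace Cfsg.Agent.Mathieu.IndexSub

open Cfsg Finset
open scoped Pointwise

/-- The fixed points. -/
def fixS (g : Equiv.Perm GolayPt) : Finset GolayPt := univ.filter fun q => g q = q

theorem mem_fixS {g : Equiv.Perm GolayPt} {q : GolayPt} : q ∈ fixS g ↔ g q = q := by simp [fixS]

/-- An invariant set has as many fixed points as elements, modulo the prime order. -/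
theorem card_filter_fix_modEq {γ : Type*} [DecidableEq γ] {p : ℕ} (hp : p.Prime)
    {σ : Equiv.Perm γ} (hσ : σ ^ p = 1) {X : Finset γ} (hX : ∀ a, σ a ∈ X ↔ a ∈ X) :
    (X.filter fun a => σ a = a).card % p = X.card % p := by
  haveI : Fact p.Prime := ⟨hp⟩
  set τ : Equiv.Perm {a // a ∈ X} := σ.subtypePerm hX with hτ
  have hτp : τ ^ p = 1 := by
    rw [hτ, Equiv.Perm.subtypePerm_pow]
    exact Equiv.ext fun a => Subtype.ext (show (σ ^ p) a.1 = a.1 by rw [hσ]; rfl)
  have h := Equiv.Perm.card_compl_support_modEq (p := p) (n := 1) (σ := τ) (by simpa using hτp)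
  rw [Fintype.card_coe] at h
  have he : τ.supportᶜ.card = (X.filter fun a => σ a = a).card := by
    rw [← card_map (Function.Embedding.subtype _)]
    congr 1
    ext a
    simp only [mem_map, mem_compl, Equiv.Perm.mem_support, not_not, Function.Embedding.coe_subtype,
      mem_filter]
    constructor
    · rintro ⟨b, hb, rfl⟩
      exact ⟨b.2, congrArg Subtype.val hb⟩
    · rintro ⟨ha, hfix⟩
      exact ⟨⟨a, ha⟩, Subtype.ext hfix, rfl⟩
  rw [he] at h
  exact h

/-- The elements fixing `k ≤ 5` given points form a subgroup of order `|M24| / (24 ⋯ (25 - k))`. -/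
theorem card_dvd_of_fix {k : ℕ} (hk : k ≤ 5) (x : Fin k ↪ GolayPt)
    {K : Subgroup (Equiv.Perm GolayPt)} (hK : K ≤ M24) (hfix : ∀ g ∈ K, ∀ i, g (x i) = x i) :
    Nat.card K * Nat.descFactorial 24 k ∣ 244823040 := by
  have hT : MulAction.orbit M24 x = Set.univ := by
    refine Set.eq_univ_of_forall fun b => ?_
    obtain ⟨g, hg, h⟩ := M24_exists_map hk x b
    exact ⟨⟨g, hg⟩, Function.Embedding.ext h⟩
  have hidx := MulAction.index_stabilizer M24 x
  replace hidx := hidx.trans (congrArg Set.ncard hT)
  rw [Set.ncard_univ] at hidx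
  rw [Nat.card_eq_fintype_card, Fintype.card_embedding_eq, Fintype.card_fin,
    Fintype.card_option, ZMod.card] at hidx
  have hle : K.subgroupOf M24 ≤ MulAction.stabilizer M24 x := fun g hg =>
    Function.Embedding.ext fun i => hfix g.1 hg i
  have hd := Subgroup.card_dvd_of_le hle
  rw [Nat.card_congr (Subgroup.subgroupOfEquivOfLe hK).toEquiv] at hd
  have hm := (MulAction.stabilizer M24 x).card_mul_index
  rw [hidx, card_M24] at hm
  rw [← hm]
  exact mul_dvd_mul_right hd _

theorem fix_card {g : Equiv.Perm GolayPt} (hg : g ∈ M24) {p : ℕ} (hp : p = 5 ∨ p = 7 ∨ p = 11)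
    (hord : orderOf g = p) : (fixS g).card = 24 % p := by
  have hpp : p.Prime := by rcases hp with rfl | rfl | rfl <;> norm_num
  have hmod := card_filter_fix_modEq hpp (σ := g) (X := univ) (by rw [← hord, pow_orderOf_eq_one])
    (fun a => by simp)
  rw [card_univ, Fintype.card_option, ZMod.card] at hmod
  have hle : (fixS g).card ≤ 4 := by
    by_contra h
    obtain ⟨s, hs, hs5⟩ := exists_subset_card_eq (show 5 ≤ (fixS g).card by omega)
    let x : Fin 5 ↪ GolayPt :=
      (s.equivFinOfCardEq hs5).symm.toEmbedding.trans (Function.Embedding.subtype _)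
    have hd := card_dvd_of_fix le_rfl x (K := Subgroup.zpowers g) (Subgroup.zpowers_le.2 hg)
      (fun k hk i => by
        obtain ⟨m, rfl⟩ := Subgroup.mem_zpowers_iff.1 hk
        exact Equiv.Perm.zpow_apply_eq_self_of_apply_eq_self
          (mem_fixS.1 (hs ((s.equivFinOfCardEq hs5).symm i).2)) m)
    rw [Nat.card_zpowers, hord] at hd
    rcases hp with rfl | rfl | rfl <;> norm_num [Nat.descFactorial] at hd
  change (fixS g).card % p = _ at hmod
  rcases hp with rfl | rfl | rfl <;> omega

theorem exists_order {H : Subgroup (Equiv.Perm GolayPt)} {p : ℕ} (hp : p.Prime)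
    (hd : p ∣ Nat.card H) : ∃ g ∈ H, orderOf g = p := by
  haveI : Fact p.Prime := ⟨hp⟩
  obtain ⟨g, hg⟩ := exists_prime_orderOf_dvd_card' p hd
  exact ⟨g.1, g.2, (Subgroup.orderOf_coe g).trans hg⟩

theorem card_inter_fix_mod {g : Equiv.Perm GolayPt} {p : ℕ} (hp : p.Prime) (hord : orderOf g = p)
    {X : Finset GolayPt} (hX : ∀ a, g a ∈ X ↔ a ∈ X) : (X ∩ fixS g).card % p = X.card % p := by
  have := card_filter_fix_modEq hp (σ := g) (by rw [← hord, pow_orderOf_eq_one]) hX
  rwa [show (X.filter fun a => g a = a) = X ∩ fixS g by ext; simp [mem_fixS]] at this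

/-- An element of prime order fixes an invariant set smaller than its order pointwise. -/
theorem subset_fix_of_small {g : Equiv.Perm GolayPt} {p : ℕ} (hp : p.Prime) (hord : orderOf g = p)
    {X : Finset GolayPt} (hX : ∀ a, g a ∈ X ↔ a ∈ X) (hsmall : X.card < p) : X ⊆ fixS g := by
  have h := card_inter_fix_mod hp hord hX
  have hle : (X ∩ fixS g).card ≤ X.card := card_le_card inter_subset_left
  rw [Nat.mod_eq_of_lt (by omega), Nat.mod_eq_of_lt hsmall] at h
  exact fun a ha => (mem_inter.1 ((eq_of_subset_of_card_le inter_subset_left h.ge).symm ▸ ha :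
    a ∈ X ∩ fixS g)).2

open scoped Classical in
/-- The orbit of a point. -/
noncomputable def orbF (H : Subgroup (Equiv.Perm GolayPt)) (p : GolayPt) : Finset GolayPt :=
  univ.filter fun q => ∃ g ∈ H, g p = q

theorem mem_orbF {H : Subgroup (Equiv.Perm GolayPt)} {p q : GolayPt} :
    q ∈ orbF H p ↔ ∃ g ∈ H, g p = q := by simp [orbF]

theorem self_mem_orbF (H : Subgroup (Equiv.Perm GolayPt)) (p : GolayPt) : p ∈ orbF H p :=
  mem_orbF.2 ⟨1, one_mem _, rfl⟩

theorem inv_orbF (H : Subgroup (Equiv.Perm GolayPt)) (p : GolayPt) : Inv H (orbF H p) := by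
  intro g hg q hq
  obtain ⟨k, hk, rfl⟩ := mem_orbF.1 hq
  exact mem_orbF.2 ⟨g * k, mul_mem hg hk, rfl⟩

theorem orbF_subset {H : Subgroup (Equiv.Perm GolayPt)} {X : Finset GolayPt} (hX : Inv H X)
    {p : GolayPt} (hp : p ∈ X) : orbF H p ⊆ X := fun q hq => by
  obtain ⟨k, hk, rfl⟩ := mem_orbF.1 hq
  exact hX k hk p hp

theorem card_orbF_dvd (H : Subgroup (Equiv.Perm GolayPt)) (p : GolayPt) :
    (orbF H p).card ∣ Nat.card H := by
  have : (MulAction.orbit H p).ncard = (orbF H p).card := by
    rw [← Set.ncard_coe_finset]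
    congr 1
    ext q
    simp [MulAction.mem_orbit_iff, orbF, Subgroup.smul_def, Equiv.Perm.smul_def]
  rw [← this, ← MulAction.index_stabilizer]
  exact Subgroup.index_dvd_card _

theorem orbF_subset_erase {H : Subgroup (Equiv.Perm GolayPt)} {x q : GolayPt}
    (hx : ∀ g ∈ H, g x = x) (hq : q ≠ x) : x ∉ orbF H q := fun h => by
  obtain ⟨g, hg, he⟩ := mem_orbF.1 h
  exact hq (g.injective (he.trans (hx g hg).symm))

/-- The count of fixed points in an invariant set and in its complement. -/
theorem split_bound {H : Subgroup (Equiv.Perm GolayPt)} (hH : H ≤ M24) {p : ℕ}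
    (hp : p = 5 ∨ p = 7 ∨ p = 11) (hd : p ∣ Nat.card H) {A B : Finset GolayPt} (hA : Inv H A)
    (hB : Inv H B) (hAB : Disjoint A B) :
    A.card % p + B.card % p + (24 - A.card - B.card) % p ≤ 24 % p := by
  have hpp : p.Prime := by rcases hp with rfl | rfl | rfl <;> norm_num
  obtain ⟨g, hg, hord⟩ := exists_order hpp hd
  have h1 := card_inter_fix_mod hpp hord (hA.mem_iff hg)
  have h2 := card_inter_fix_mod hpp hord (hB.mem_iff hg)
  have hC : Inv H (A ∪ B)ᶜ := Inv.compl fun k hk q hq => by
    rcases mem_union.1 hq with h | h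
    exacts [mem_union_left _ (hA k hk q h), mem_union_right _ (hB k hk q h)]
  have h3 := card_inter_fix_mod hpp hord (hC.mem_iff hg)
  rw [card_compl, card_union_of_disjoint hAB, Fintype.card_option, ZMod.card] at h3
  rw [show 23 + 1 - (A.card + B.card) = 24 - A.card - B.card by omega] at h3
  rw [← h1, ← h2, ← h3, ← fix_card (hH hg) hp hord]
  refine le_trans (Nat.add_le_add (Nat.add_le_add (Nat.mod_le _ _) (Nat.mod_le _ _)) (Nat.mod_le _ _)) ?_
  rw [← card_union_of_disjoint (disjoint_of_subset_left inter_subset_left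
    (disjoint_of_subset_right inter_subset_left hAB)), ← card_union_of_disjoint]
  · exact card_le_card (union_subset (union_subset inter_subset_right inter_subset_right)
      inter_subset_right)
  · rw [← union_inter_distrib_right]
    exact disjoint_of_subset_left inter_subset_left
      (disjoint_of_subset_right inter_subset_left disjoint_compl_right)

/-- The elements fixing a point. -/
def ptFix (H : Subgroup (Equiv.Perm GolayPt)) (x : GolayPt) : Subgroup (Equiv.Perm GolayPt) :=
  H ⊓ MulAction.stabilizer (Equiv.Perm GolayPt) x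

theorem mem_ptFix {H : Subgroup (Equiv.Perm GolayPt)} {x : GolayPt} {g : Equiv.Perm GolayPt} :
    g ∈ ptFix H x ↔ g ∈ H ∧ g x = x := Iff.rfl

theorem card_ptFix {H : Subgroup (Equiv.Perm GolayPt)} (x : GolayPt) :
    Nat.card H = (orbF H x).card * Nat.card (ptFix H x) := by
  have h1 : (MulAction.orbit H x).ncard = (orbF H x).card := by
    rw [← Set.ncard_coe_finset]
    congr 1
    ext q
    simp [MulAction.mem_orbit_iff, orbF, Subgroup.smul_def, Equiv.Perm.smul_def]
  have h2 : MulAction.stabilizer H x = (ptFix H x).subgroupOf H := by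
    ext g
    simp [Subgroup.mem_subgroupOf, mem_ptFix, Subgroup.smul_def, Equiv.Perm.smul_def]
  have := (MulAction.stabilizer H x).card_mul_index
  rw [MulAction.index_stabilizer, h1, h2,
    Nat.card_congr (Subgroup.subgroupOfEquivOfLe (show ptFix H x ≤ H from inf_le_left)).toEquiv] at this
  rw [← this, mul_comm]

end Cfsg.Agent.Mathieu.IndexSub
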