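import Cfsg.Agent.Lib.Mathieu.IndexSub.Tools
import Cfsg.Agent.Lib.Mathieu.Sextets

/-!
A subgroup of order 138240 of `M24` fixes a sextet.
-/

set_option autoImplicit false
set_option maxRecDepth 20000

namespace Cfsg.Agent.Mathieu.IndexSub

open Cfsg Finset
open scoped Pointwise

variable {H S : Subgroup (Equiv.Perm GolayPt)}

theorem first_sizes1771 : ∀ b c d : Bool, bval true b c d ∣ 5760 →
    1 % 5 + bval true b c d % 5 + (24 - 1 - bval true b c d) % 5 ≤ 24 % 5 →
    (b = false ∧ c = false ∧ d = false) ∨ (b = true ∧ c = false ∧ d = false) ∨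
      (b = false ∧ c = true ∧ d = false) := by
  decide +kernel

theorem pair_sizes1771 : ∀ c d : Bool, bval false true c d ∣ 5760 →
    2 % 5 + bval false true c d % 5 + (24 - 2 - bval false true c d) % 5 ≤ 24 % 5 →
    bval false true c d = 2 ∨ bval false true c d = 6 := by
  decide +kernel

theorem five_sizes1771 : ∀ a d : Bool, bval a true false d ∣ 5760 → a = false →
    bval a true false d = 2 ∨ bval a true false d = 18 := by
  decide +kernel

/-- An equivariant assignment of four-sets to the twenty points has `F` among its values. -/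
theorem eq_F_of_equivariant {x : GolayPt} (P : Parts x S) (hS : Nat.card S = 128)
    {t : Finset GolayPt} (ht : t = insert x (P.U ∪ P.D)) (hti : Inv S t) (M : GolayPt → Finset GolayPt)
    (hM : ∀ f, f ∉ t → f ∈ M f ∧ (M f).card = 4 ∧ Disjoint (M f) t)
    (hMeq : ∀ g ∈ S, ∀ f, f ∉ t → g • M f = M (g f)) {f : GolayPt} (hf : f ∈ P.F) : M f = P.F := by
  classical
  obtain ⟨-, hd2, hd3⟩ := P.disjoint
  have hFt : ∀ q ∈ P.F, q ∉ t := by
    intro q hq h
    rw [ht, mem_insert] at h
    rcases h with rfl | h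
    · exact P.notMem.2.2.1 hq
    · exact disjoint_left.1 hd3 h (mem_union_left _ hq)
  have hout : ∀ q, q ∉ t → q ∈ P.F ∨ q ∈ P.W := by
    intro q hq
    rw [ht, mem_insert, mem_union, not_or, not_or] at hq
    rcases P.cover q with e | e | e | e | e
    exacts [absurd e hq.1, absurd e hq.2.1, absurd e hq.2.2, Or.inl e, Or.inr e]
  have hFinv : Inv S P.F := by
    have hsub : orbF S f ⊆ tᶜ := orbF_subset hti.compl (mem_compl.2 (hFt f hf))
    obtain ⟨-, -, h3, h4⟩ := P.whole _ (inv_orbF S f)
    have h3' : P.F ⊆ orbF S f := h3.resolve_right fun d => disjoint_left.1 d hf (self_mem_orbF S f)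
    rcases h4 with h4 | h4
    · exfalso
      have h := card_le_card (union_subset h3' h4)
      rw [card_union_of_disjoint hd2, P.card_F, P.card_W] at h
      have hle : (orbF S f).card ≤ 24 := card_pts ▸ card_le_univ _
      have hdvd : (orbF S f).card ∣ 2 ^ 7 := (card_orbF_dvd S f).trans (hS ▸ dvd_refl _)
      obtain ⟨k, hk, he⟩ := (Nat.dvd_prime_pow Nat.prime_two).1 hdvd
      rw [he] at h hle
      rcases lt_or_ge k 5 with hk5 | hk5
      · have := Nat.pow_le_pow_right (show 1 ≤ 2 by norm_num) (show k ≤ 4 by omega)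
        omega
      · have := Nat.pow_le_pow_right (show 1 ≤ 2 by norm_num) hk5
        omega
    · have : orbF S f = P.F := Subset.antisymm (fun q hq =>
        (hout q (mem_compl.1 (hsub hq))).resolve_right fun h => disjoint_left.1 h4 h hq) h3'
      exact this ▸ inv_orbF S f
  have hB : Inv S (P.F.biUnion M) := by
    intro g hg q hq
    rw [mem_biUnion] at hq ⊢
    obtain ⟨r, hr, hq⟩ := hq
    exact ⟨g r, hFinv g hg r hr, hMeq g hg r (hFt r hr) ▸ apply_mem_smul_pts.2 hq⟩
  have hsubF : P.F.biUnion M ⊆ P.F := by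
    obtain ⟨-, -, -, h4⟩ := P.whole _ hB
    rcases h4 with h4 | h4
    · exfalso
      have h : P.F ∪ P.W ⊆ P.F.biUnion M :=
        union_subset (fun q hq => mem_biUnion.2 ⟨q, hq, (hM q (hFt q hq)).1⟩) h4
      have h1 := card_le_card h
      have h2 := card_biUnion_le_card_mul P.F M 4 fun q hq => (hM q (hFt q hq)).2.1.le
      rw [card_union_of_disjoint hd2, P.card_W] at h1
      rw [P.card_F] at h1 h2
      omega
    · intro q hq
      obtain ⟨r, hr, hqr⟩ := mem_biUnion.1 hq
      exact (hout q (disjoint_left.1 (hM r (hFt r hr)).2.2 hqr)).resolve_right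
        fun h => disjoint_left.1 h4 h hq
  exact eq_of_subset_of_card_le (fun q hq => hsubF (mem_biUnion.2 ⟨f, hf, hq⟩))
    (by rw [(hM f (hFt f hf)).2.1, P.card_F])

theorem singleton_unique1771 (hH : H ≤ M24) {m : ℕ} (hc : ∀ a, Nat.card (ptFix H a) = m)
    (hm : ¬ m * Nat.descFactorial 24 3 ∣ 244823040) :
    ∀ y X X', (X.card = 1 ∧ y ∉ X ∧ Inv (ptFix H y) X) →
      (X'.card = 1 ∧ y ∉ X' ∧ Inv (ptFix H y) X') → X = X' := by
  rintro y X X' ⟨h1, h2, h3⟩ ⟨h1', h2', h3'⟩
  obtain ⟨v, rfl⟩ := card_eq_one.1 h1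
  obtain ⟨v', rfl⟩ := card_eq_one.1 h1'
  by_contra hne
  rw [singleton_inj] at hne
  rw [mem_singleton] at h2 h2'
  have hd := card_dvd_of_fixed ((ptFix_le y).trans hH) (s := {y, v, v'})
    (le_trans card_le_three (by norm_num)) fun g hg p hp => by
      simp only [mem_insert, mem_singleton] at hp
      rcases hp with rfl | rfl | rfl
      exacts [ptFix_fix p g hg, mem_singleton.1 (h3 g hg p (mem_singleton_self p)),
        mem_singleton.1 (h3' g hg p (mem_singleton_self p))]
  rw [hc, card_insert_of_notMem (by simp [h2, h2']), card_pair hne] at hd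
  exact hm hd

theorem fixed_point_absurd (hH : H ≤ M24) (hT : ∀ a b : GolayPt, ∃ g ∈ H, g a = b)
    (hn : Nat.card H = 138240) {x u : GolayPt} (P : Parts x (ptFix H x)) (hPU : P.U = {u})
    (hu : ∀ g ∈ ptFix H x, g u = u) : False := by
  classical
  have hc := card_ptFix_of_trans hT (m := 5760) (by rw [hn])
  have hK : (ptFix H x) ≤ M24 := (ptFix_le x).trans hH
  have hKx : ∀ g ∈ (ptFix H x), g x = x := ptFix_fix x
  have hux : u ≠ x := fun e => P.notMem.1 (by rw [hPU, e]; exact mem_singleton_self x)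
  obtain ⟨w, hw⟩ : P.D.Nonempty := card_pos.1 (by rw [P.card_D]; norm_num)
  have hwx : w ≠ x := fun e => P.notMem.2.1 (e ▸ hw)
  have hwu : u ∉ orbF (ptFix H x) w := orbF_subset_erase hu fun e =>
    disjoint_left.1 P.disjoint.1 (hPU ▸ mem_singleton_self u) (e ▸ hw)
  have hxo := orbF_subset_erase hKx hwx
  obtain ⟨a, b, c, d, he, ha, hb⟩ := P.decomp (inv_orbF (ptFix H x) w) hxo
  have hb' : b = true := hb.2 ((P.whole _ (inv_orbF (ptFix H x) w)).2.1.resolve_right
    fun h => disjoint_left.1 h hw (self_mem_orbF (ptFix H x) w))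
  have ha' : a = false := by
    rw [← Bool.not_eq_true]
    exact fun e => hwu (ha.1 e (hPU ▸ mem_singleton_self u))
  subst hb' ha'
  have ht : (orbF (ptFix H x) w).card = bval false true c d := by rw [he, P.card_union]
  have hpair : Inv (ptFix H x) {x, u} := fun g hg q hq => by
    simp only [mem_insert, mem_singleton] at hq ⊢
    rcases hq with rfl | rfl
    exacts [Or.inl (hKx g hg), Or.inr (hu g hg)]
  have hdj : Disjoint ({x, u} : Finset GolayPt) (orbF (ptFix H x) w) := by
    simp [disjoint_insert_left, hxo, hwu]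
  have h5 := split_bound hK (p := 5) (Or.inl rfl) (by rw [hc]; norm_num) hpair (inv_orbF (ptFix H x) w) hdj
  rw [card_pair hux.symm, ht] at h5
  rcases pair_sizes1771 c d (ht ▸ hc x ▸ card_orbF_dvd (ptFix H x) w) h5 with h | h
  · -- the pair is invariant: four fixed points
    have h2 : (orbF (ptFix H x) w).card = 2 := ht.trans h
    have hL : Nat.card (ptFix (ptFix H x) w) = 2880 := by
      have := card_ptFix (H := (ptFix H x)) w
      rw [h2, hc] at this
      omega
    have hd := card_dvd_of_fixed ((ptFix_le w).trans hK) (s := {x, u} ∪ orbF (ptFix H x) w)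
      (by rw [card_union_of_disjoint hdj, card_pair hux.symm, h2]; norm_num) fun g hg q hq => by
        obtain ⟨hgK, hgw⟩ := mem_ptFix.1 hg
        rcases mem_union.1 hq with hq | hq
        · simp only [mem_insert, mem_singleton] at hq
          rcases hq with rfl | rfl
          exacts [hKx g hgK, hu g hgK]
        by_cases hqw : q = w
        · rw [hqw, hgw]
        have hgq : g q ≠ w := fun e => hqw (g.injective (e.trans hgw.symm))
        have h1 : ((orbF (ptFix H x) w).erase w).card ≤ 1 := by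
          rw [card_erase_of_mem (self_mem_orbF (ptFix H x) w), h2]
        exact card_le_one.1 h1 _ (mem_erase.2 ⟨hgq, inv_orbF (ptFix H x) w g hgK q hq⟩) _
          (mem_erase.2 ⟨hqw, hq⟩)
    rw [hL, card_union_of_disjoint hdj, card_pair hux.symm, h2] at hd
    norm_num [Nat.descFactorial] at hd
  · -- a partner map on six points without fixed points
    have h6 : (orbF (ptFix H x) w).card = 6 := ht.trans h
    have huniq := singleton_unique1771 hH hc (by norm_num [Nat.descFactorial])
    obtain ⟨U, hU, hUx, hUeq⟩ := exists_equivariant hT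
      (fun y X => X.card = 1 ∧ y ∉ X ∧ Inv (ptFix H y) X)
      (fun g hg y X h => ⟨by rw [card_smul_finset, h.1], fun h' => h.2.1 (apply_mem_smul_pts.1 h'),
        inv_conj hg h.2.2⟩) huniq (x := x) (X := {u})
      ⟨card_singleton u, by simpa using hux.symm, fun g hg p hp => by
        rw [mem_singleton] at hp ⊢; rw [hp, hu g hg]⟩
    have hsymm : ∀ y z, z ∈ U y → U z = {y} := by
      intro y z hz
      have hzy : z ≠ y := fun e => (hU y).2.1 (e ▸ hz)
      have hUy : U y = {z} := (eq_of_subset_of_card_le (singleton_subset_iff.2 hz)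
        (by rw [(hU y).1, card_singleton])).symm
      have hfix : ∀ g ∈ ptFix H y, g z = z := fun g hg => by
        have h0 := (hU y).2.2 g hg z hz
        rw [hUy] at h0
        exact mem_singleton.1 h0
      have he : ptFix H y = ptFix H z :=
        ptFix_eq_of_le hT fun g hg => mem_ptFix.2 ⟨(mem_ptFix.1 hg).1, hfix g hg⟩
      exact huniq z _ _ (hU z) ⟨card_singleton y, by simpa using hzy,
        fun g hg p hp => by rw [mem_singleton] at hp ⊢; rw [hp, ptFix_fix y g (he ▸ hg)]⟩
    set Z := (orbF (ptFix H x) w).biUnion U with hZ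
    have hZinv : Inv (ptFix H x) Z := by
      intro g hg q hq
      rw [hZ, mem_biUnion] at hq ⊢
      obtain ⟨r, hr, hq⟩ := hq
      exact ⟨g r, inv_orbF (ptFix H x) w g hg r hr, hUeq g (mem_ptFix.1 hg).1 r ▸ apply_mem_smul_pts.2 hq⟩
    have hxZ : x ∉ Z := by
      rw [hZ, mem_biUnion]
      rintro ⟨r, hr, hxr⟩
      have := hsymm r x hxr
      rw [hUx, singleton_inj] at this
      exact hwu (this ▸ hr)
    have hZ6 : Z.card = 6 := by
      rw [hZ, card_biUnion, sum_const_nat (fun r _ => (hU r).1), h6]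
      intro r _ r' _ hne
      refine disjoint_left.2 fun q hq hq' => hne ?_
      exact singleton_inj.1 ((hsymm r q hq).symm.trans (hsymm r' q hq'))
    have hZeq : Z = orbF (ptFix H x) w := P.eq_of_card hZinv (inv_orbF (ptFix H x) w) hxZ hxo (hZ6.trans h6.symm)
    obtain ⟨g5, hg5, hord⟩ := exists_order (by norm_num : (5 : ℕ).Prime)
      (show 5 ∣ Nat.card (ptFix H x) by rw [hc]; norm_num)
    have hmod := card_inter_fix_mod (by norm_num : (5 : ℕ).Prime) hord ((inv_orbF (ptFix H x) w).mem_iff hg5)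
    have hf : (fixS g5).card = 4 := fix_card (hK hg5) (Or.inl rfl) hord
    have hle : (orbF (ptFix H x) w ∩ fixS g5).card ≤ (fixS g5).card := card_le_card inter_subset_right
    rw [h6] at hmod
    obtain ⟨q, hq⟩ : (orbF (ptFix H x) w ∩ fixS g5).Nonempty := card_pos.1 (by omega)
    rw [mem_inter, mem_fixS] at hq
    obtain ⟨v, hv⟩ := card_eq_one.1 (hU q).1
    have hvo : v ∈ orbF (ptFix H x) w := hZeq ▸ mem_biUnion.2 ⟨q, hq.1, hv ▸ mem_singleton_self v⟩
    have hvfix : g5 v = v := by
      have : g5 v ∈ g5 • U q := apply_mem_smul_pts.2 (hv ▸ mem_singleton_self v)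
      rw [hUeq g5 (mem_ptFix.1 hg5).1 q, hq.2, hv, mem_singleton] at this
      exact this
    have hne : q ≠ v := fun e => (hU q).2.1 (by rw [hv, e]; exact mem_singleton_self v)
    have h2 := card_le_card (show ({q, v} : Finset GolayPt) ⊆ orbF (ptFix H x) w ∩ fixS g5 by
      simp [insert_subset_iff, mem_fixS, hq.1, hq.2, hvo, hvfix])
    rw [card_pair hne] at h2
    omega

theorem five_absurd (hH : H ≤ M24) (hT : ∀ a b : GolayPt, ∃ g ∈ H, g a = b)
    (hn : Nat.card H = 138240) {x u : GolayPt} (P : Parts x (ptFix H x)) (hPU : P.U = {u})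
    (h5 : orbF (ptFix H x) u = P.U ∪ P.F) : False := by
  classical
  have hc := card_ptFix_of_trans hT (m := 5760) (by rw [hn])
  have hKx : ∀ g ∈ (ptFix H x), g x = x := ptFix_fix x
  obtain ⟨hd1, hd2, hd3⟩ := P.disjoint
  have hc5 : (orbF (ptFix H x) u).card = 5 := by
    rw [h5, card_union_of_disjoint (disjoint_of_subset_left subset_union_left
      (disjoint_of_subset_right subset_union_left hd3)), P.card_U, P.card_F]
  have hux : u ≠ x := fun e => P.notMem.1 (by rw [hPU, e]; exact mem_singleton_self x)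
  obtain ⟨w, hw⟩ : P.D.Nonempty := card_pos.1 (by rw [P.card_D]; norm_num)
  have hwx : w ≠ x := fun e => P.notMem.2.1 (e ▸ hw)
  have hw5 : w ∈ (orbF (ptFix H x) u)ᶜ := by
    rw [mem_compl, h5, mem_union]
    rintro (h | h)
    · exact disjoint_left.1 hd1 h hw
    · exact disjoint_left.1 hd3 (mem_union_right _ hw) (mem_union_left _ h)
  have hsub := orbF_subset (inv_orbF (ptFix H x) u).compl hw5
  have hxo := orbF_subset_erase hKx hwx
  obtain ⟨a, b, c, d, he, ha, hb⟩ := P.decomp (inv_orbF (ptFix H x) w) hxo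
  have hb' : b = true := hb.2 ((P.whole _ (inv_orbF (ptFix H x) w)).2.1.resolve_right
    fun h => disjoint_left.1 h hw (self_mem_orbF (ptFix H x) w))
  have hu0 : u ∈ orbF (ptFix H x) u := self_mem_orbF (ptFix H x) u
  have ha' : a = false := by
    rw [← Bool.not_eq_true]
    exact fun e => mem_compl.1 (hsub (ha.1 e (hPU ▸ mem_singleton_self u))) hu0
  have hc' : c = false := by
    rw [← Bool.not_eq_true]
    intro e
    obtain ⟨f, hf⟩ : P.F.Nonempty := card_pos.1 (by rw [P.card_F]; norm_num)
    have hfo : f ∈ orbF (ptFix H x) w := by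
      rw [he]
      exact mem_union_right _ (mem_union_left _ (by rw [if_pos e]; exact hf))
    exact mem_compl.1 (hsub hfo) (by rw [h5]; exact mem_union_right _ hf)
  subst hb' hc'
  have ht : (orbF (ptFix H x) w).card = bval a true false d := by rw [he, P.card_union]
  rcases five_sizes1771 a d (ht ▸ hc x ▸ card_orbF_dvd (ptFix H x) w) ha' with h | h
  · refine no_pair hH hT (by rw [hc]; norm_num) (by rw [hc]; norm_num) (Or.inr fun q hq => ?_)
      (inv_orbF (ptFix H x) w) hxo (ht.trans h)
    by_contra! hfix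
    have hI : Inv (ptFix H x) {q} := fun g hg p hp => by
      rw [mem_singleton] at hp ⊢; rw [hp, hfix g hg]
    obtain ⟨a', b', c', d', he', ha2, -⟩ := P.decomp hI (by simpa using hq.symm)
    have hcard := congrArg card he'
    rw [P.card_union, card_singleton] at hcard
    have : a' = true := by clear he' ha2; revert hcard; revert a' b' c' d'; decide
    have hqu : u ∈ ({q} : Finset GolayPt) := ha2.1 this (hPU ▸ mem_singleton_self u)
    rw [mem_singleton] at hqu
    have hsub1 : orbF (ptFix H x) u ⊆ {q} := orbF_subset hI (by rw [hqu]; exact mem_singleton_self q)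
    have := card_le_card hsub1
    rw [hc5, card_singleton] at this
    omega
  · have h18 : (orbF (ptFix H x) w).card = 18 := ht.trans h
    obtain ⟨O, hO, hsubO⟩ := exists_octad hc5
    have hOinv : Inv (ptFix H x) O := inv_of_smul fun g hg =>
      octad_eq_of_five_le (M24_smul_octad (hH (ptFix_le x hg)) hO) hO (by
        rw [← hc5]
        refine card_le_card fun p hp => mem_inter.2 ⟨?_, hsubO hp⟩
        rw [← (inv_orbF (ptFix H x) u).smul_eq hg] at hp
        exact smul_finset_subset_smul_finset hsubO hp)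
    have hdisj : O ⊆ (orbF (ptFix H x) w)ᶜ := fun q hq => mem_compl.2 fun hqw => by
      have hsubq : orbF (ptFix H x) w ⊆ O := by
        obtain ⟨k, hk, rfl⟩ := mem_orbF.1 hqw
        refine orbF_subset hOinv ((hOinv.mem_iff hk w).1 hq)
      have := card_le_card hsubq
      rw [octad_card hO, h18] at this
      omega
    have := card_le_card hdisj
    rw [octad_card hO, card_compl, h18, card_pts] at this
    omega

theorem three_sextet (hH : H ≤ M24) (hT : ∀ a b : GolayPt, ∃ g ∈ H, g a = b)
    (hn : Nat.card H = 138240) {x u : GolayPt} (P : Parts x (ptFix H x))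
    (h3 : orbF (ptFix H x) u = P.U ∪ P.D) (hxo : x ∉ orbF (ptFix H x) u) :
    ∃ St ∈ sextets, ∀ g ∈ H, g • St = St := by
  classical
  have hc := card_ptFix_of_trans hT (m := 5760) (by rw [hn])
  have hK : (ptFix H x) ≤ M24 := (ptFix_le x).trans hH
  have hKx : ∀ g ∈ (ptFix H x), g x = x := ptFix_fix x
  have hc3 : (orbF (ptFix H x) u).card = 3 := by
    rw [h3, card_union_of_disjoint P.disjoint.1, P.card_U, P.card_D]
  have huniq : ∀ y X X', (X.card = 3 ∧ y ∉ X ∧ Inv (ptFix H y) X) →
      (X'.card = 3 ∧ y ∉ X' ∧ Inv (ptFix H y) X') → X = X' := by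
    rintro y X X' ⟨h1, h2, h3⟩ ⟨h1', h2', h3'⟩
    obtain ⟨Q⟩ := rigid23 ((ptFix_le y).trans hH) (ptFix_fix y) (by rw [hc]; norm_num)
    exact Q.eq_of_card h3 h3' h2 h2' (h1.trans h1'.symm)
  obtain ⟨X, hX, hXx, hXeq⟩ := exists_equivariant hT
    (fun y X => X.card = 3 ∧ y ∉ X ∧ Inv (ptFix H y) X)
    (fun g hg y X h => ⟨by rw [card_smul_finset, h.1], fun h' => h.2.1 (apply_mem_smul_pts.1 h'),
      inv_conj hg h.2.2⟩) huniq (x := x) (X := orbF (ptFix H x) u) ⟨hc3, hxo, inv_orbF (ptFix H x) u⟩
  set T : GolayPt → Finset GolayPt := fun y => insert y (X y) with hTdef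
  have hTs : ∀ y, y ∈ T y := fun y => mem_insert_self _ _
  have hTc : ∀ y, (T y).card = 4 := fun y => by
    rw [hTdef, card_insert_of_notMem (hX y).2.1, (hX y).1]
  have hTeq : ∀ g ∈ H, ∀ y, g • T y = T (g y) := fun g hg y => by
    rw [hTdef, smul_finset_insert, hXeq g hg y]; rfl
  obtain ⟨g5, hg5, hord⟩ := exists_order (by norm_num : (5 : ℕ).Prime)
    (show 5 ∣ Nat.card (ptFix H x) by rw [hc]; norm_num)
  have hf : (fixS g5).card = 4 := fix_card (hK hg5) (Or.inl rfl) hord
  have hTfix : ∀ y, g5 ∈ ptFix H y → T y = fixS g5 := fun y hy => by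
    refine eq_of_subset_of_card_le (insert_subset (mem_fixS.2 (mem_ptFix.1 hy).2) ?_)
      (by rw [hTc, hf])
    exact subset_fix_of_small (by norm_num) hord ((hX y).2.2.mem_iff hy) (by rw [(hX y).1]; norm_num)
  have hblock := blocks_of_one hT hTeq (x := x) fun z hz => by
    rw [hTfix x hg5] at hz ⊢
    exact hTfix z (mem_ptFix.2 ⟨(mem_ptFix.1 hg5).1, mem_fixS.1 hz⟩)
  set t := T x with htdef
  have ht4 : t.card = 4 := hTc x
  have hti : Inv (ptFix H x) t := by
    rw [htdef, hTdef]
    exact (hX x).2.2.insert hKx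
  -- a Sylow subgroup of the point stabiliser
  obtain ⟨S0, hS0⟩ := Sylow.exists_subgroup_card_pow_prime (G := ↥(ptFix H x)) 2 (n := 7)
    (show 2 ^ 7 ∣ Nat.card (ptFix H x) by rw [hc]; norm_num)
  set S := S0.map (ptFix H x).subtype with hSdef
  have hSK : S ≤ (ptFix H x) := by rintro _ ⟨g, -, rfl⟩; exact g.2
  have hSc : Nat.card S = 128 := by
    rw [hSdef, Nat.card_congr (Subgroup.equivMapOfInjective S0 _ (ptFix H x).subtype_injective).toEquiv.symm,
      hS0]
    norm_num
  obtain ⟨P'⟩ := rigid23 (hSK.trans hK) (fun g hg => hKx g (hSK hg)) (by rw [hSc])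
  have htS : t = insert x (P'.U ∪ P'.D) := by
    obtain ⟨a, b, c, d, he, -, -⟩ := P'.decomp ((inv_orbF (ptFix H x) u).mono hSK) hxo
    have hcard := congrArg card he
    rw [P'.card_union, hc3] at hcard
    obtain ⟨rfl, rfl, rfl, rfl⟩ : a = true ∧ b = true ∧ c = false ∧ d = false := by
      clear he; revert hcard; revert a b c d; decide
    rw [htdef, hTdef]
    simp only [hXx, he, if_true, Bool.false_eq_true, if_false, union_empty]
  have hout : ∀ y, y ∉ t → Disjoint (T y) t := by
    intro y hy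
    refine disjoint_left.2 fun q hq hqt => hy ?_
    have h1 := hblock y q hq
    rw [hblock x q hqt] at h1
    exact htdef ▸ h1.symm ▸ hTs y
  -- the octads through the block
  have hoct : ∀ y, ∃ o, y ∉ t → o ∈ octads ∧ insert y t ⊆ o := by
    intro y
    by_cases hy : y ∈ t
    · exact ⟨∅, fun h => absurd hy h⟩
    · obtain ⟨o, ho, hs⟩ := exists_octad (s := insert y t) (by rw [card_insert_of_notMem hy, ht4])
      exact ⟨o, fun _ => ⟨ho, hs⟩⟩
  choose o ho using hoct
  obtain ⟨f, hfF⟩ : P'.F.Nonempty := card_pos.1 (by rw [P'.card_F]; norm_num)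
  have hft : f ∉ t := by
    rw [htS, mem_insert, mem_union]
    rintro (h | h | h)
    · exact P'.notMem.2.2.1 (h ▸ hfF)
    · exact disjoint_left.1 P'.disjoint.2.2 (mem_union_left _ h) (mem_union_left _ hfF)
    · exact disjoint_left.1 P'.disjoint.2.2 (mem_union_right _ h) (mem_union_left _ hfF)
  have e1 : T f = P'.F := eq_F_of_equivariant P' hSc htS (hti.mono hSK) T
    (fun y hy => ⟨hTs y, hTc y, hout y hy⟩) (fun g hg y _ => hTeq g (ptFix_le x (hSK hg)) y) hfF
  have e2 : o f \ t = P'.F := by
    refine eq_F_of_equivariant P' hSc htS (hti.mono hSK) (fun y => o y \ t) (fun y hy => ?_)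
      (fun g hg y hy => ?_) hfF
    · obtain ⟨h1, h2⟩ := ho y hy
      exact ⟨mem_sdiff.2 ⟨h2 (mem_insert_self _ _), hy⟩, by
        rw [card_sdiff_of_subset ((subset_insert _ _).trans h2), octad_card h1, ht4],
        sdiff_disjoint⟩
    · have hgt : g • t = t := hti.smul_eq (hSK hg)
      have hgy : g y ∉ t := fun h => hy ((hti.mem_iff (hSK hg) y).1 h)
      obtain ⟨h1, h2⟩ := ho y hy
      obtain ⟨h1', h2'⟩ := ho (g y) hgy
      rw [smul_finset_sdiff, hgt]
      congr 1
      refine octad_eq_of_five_le (M24_smul_octad (hK (hSK hg)) h1) h1' ?_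
      refine le_trans ?_ (card_le_card (subset_inter ?_ h2'))
      · rw [card_insert_of_notMem hgy, ht4]
      · have := smul_finset_subset_smul_finset (a := g) h2
        rwa [smul_finset_insert, hgt] at this
  have hfSt : T f ∈ sextetOf t := by
    rw [e1, ← e2]
    obtain ⟨h1, h2⟩ := ho f hft
    exact mem_sextetOf.2 (Or.inr ⟨o f, h1, (subset_insert _ _).trans h2, rfl⟩)
  have hStS := sextetOf_mem ht4
  -- the twenty remaining points form one orbit
  have horb : tᶜ ⊆ orbF (ptFix H x) f := by
    have hsub : orbF (ptFix H x) f ⊆ tᶜ := orbF_subset hti.compl (mem_compl.2 hft)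
    obtain ⟨-, -, h3', h4'⟩ := P'.whole _ ((inv_orbF (ptFix H x) f).mono hSK)
    have h3'' : P'.F ⊆ orbF (ptFix H x) f := h3'.resolve_right fun d => disjoint_left.1 d hfF (self_mem_orbF (ptFix H x) f)
    have houtS : ∀ q, q ∉ t → q ∈ P'.F ∨ q ∈ P'.W := fun q hq => by
      rw [htS, mem_insert, mem_union, not_or, not_or] at hq
      rcases P'.cover q with e | e | e | e | e
      exacts [absurd e hq.1, absurd e hq.2.1, absurd e hq.2.2, Or.inl e, Or.inr e]
    rcases h4' with h4 | h4
    · intro q hq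
      rcases houtS q (mem_compl.1 hq) with h | h
      exacts [h3'' h, h4 h]
    · exfalso
      have hle : orbF (ptFix H x) f ⊆ P'.F := fun q hq =>
        (houtS q (mem_compl.1 (hsub hq))).resolve_right fun h => disjoint_left.1 h4 h hq
      have hfix := subset_fix_of_small (by norm_num) hord ((inv_orbF (ptFix H x) f).mem_iff hg5)
        (lt_of_le_of_lt (card_le_card hle) (by rw [P'.card_F]; norm_num)) (self_mem_orbF (ptFix H x) f)
      exact hft (by rw [htdef, hTfix x hg5]; exact hfix)
  have hall : ∀ y, T y ∈ sextetOf t := by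
    intro y
    by_cases hy : y ∈ t
    · rw [hblock x y hy]
      exact mem_sextetOf.2 (Or.inl rfl)
    obtain ⟨k, hk, rfl⟩ := mem_orbF.1 (horb (mem_compl.2 hy))
    have hkt : k • t = t := hti.smul_eq hk
    have hkS : k • sextetOf t = sextetOf t :=
      eq_sextetOf (M24_smul_sextet (hK hk) hStS)
        (by
          have h := Finset.smul_mem_smul_finset (a := k)
            (mem_sextetOf.2 (Or.inl rfl) : t ∈ sextetOf t)
          rwa [hkt] at h)
    rw [← hTeq k (ptFix_le x hk) f, ← hkS]
    exact Finset.smul_mem_smul_finset hfSt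
  refine ⟨sextetOf t, hStS, fun g hg => ?_⟩
  have hmem : T (g x) ∈ g • sextetOf t := by
    rw [← hTeq g hg x]
    exact Finset.smul_mem_smul_finset (mem_sextetOf.2 (Or.inl rfl))
  rw [eq_sextetOf (M24_smul_sextet (hH hg) hStS) hmem, ← eq_sextetOf hStS (hall (g x))]

/-- Index 1771. -/
theorem case1771 (hH : H ≤ M24) (hn : Nat.card H = 138240) :
    ∃ St ∈ sextets, ∀ g ∈ H, g • St = St := by
  classical
  by_cases hT : ∀ a b : GolayPt, ∃ g ∈ H, g a = b
  swap
  · exfalso
    obtain ⟨O, hO, hfix⟩ := nontrans_octad hH (by rw [hn]; norm_num) hT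
    have hle : H.subgroupOf M24 ≤ MulAction.stabilizer M24 O := fun g hg => hfix g.1 hg
    have hd := Subgroup.card_dvd_of_le hle
    rw [Nat.card_congr (Subgroup.subgroupOfEquivOfLe hH).toEquiv, hn] at hd
    have hm := (MulAction.stabilizer M24 O).card_mul_index
    have horb : MulAction.orbit M24 O = octads := by
      ext o
      refine ⟨?_, fun ho => ?_⟩
      · rintro ⟨⟨g, hg⟩, rfl⟩; exact M24_smul_octad hg hO
      · obtain ⟨g, hg, he⟩ := M24_transitive_octads hO ho
        exact ⟨⟨g, hg⟩, he⟩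
    rw [MulAction.index_stabilizer, horb, octads_ncard, card_M24] at hm
    have hS : Nat.card (MulAction.stabilizer M24 O) = 322560 := by omega
    rw [hS] at hd
    norm_num at hd
  have hc := card_ptFix_of_trans hT (m := 5760) (by rw [hn])
  set x : GolayPt := none with hxdef
  have hK : ptFix H x ≤ M24 := (ptFix_le x).trans hH
  obtain ⟨P⟩ := rigid23 hK (ptFix_fix x) (by rw [hc]; norm_num)
  obtain ⟨u, hu⟩ := exists_U P
  have hne : u ≠ x := fun e => P.notMem.1 (by rw [hu, e]; exact mem_singleton_self x)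
  have hxo := orbF_subset_erase (ptFix_fix (H := H) x) hne
  obtain ⟨a, b, c, d, he, ha, -⟩ := P.decomp (inv_orbF _ u) hxo
  have ha' : a = true := ha.2 (by rw [hu, singleton_subset_iff]; exact self_mem_orbF _ u)
  subst ha'
  have hs : (orbF (ptFix H x) u).card = bval true b c d := by rw [he, P.card_union]
  have h5 := split_bound hK (p := 5) (Or.inl rfl) (by rw [hc]; norm_num)
    (singleton_inv (ptFix_fix (H := H) x)) (inv_orbF _ u) (disjoint_singleton_left.2 hxo)
  rw [card_singleton, hs] at h5
  rcases first_sizes1771 b c d (hs ▸ hc x ▸ card_orbF_dvd _ u) h5 with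
    ⟨rfl, rfl, rfl⟩ | ⟨rfl, rfl, rfl⟩ | ⟨rfl, rfl, rfl⟩ <;>
    simp only [if_true, Bool.false_eq_true, if_false, union_empty, empty_union] at he
  · refine (fixed_point_absurd hH hT hn P hu fun g hg => ?_).elim
    have := inv_orbF (ptFix H x) u g hg u (self_mem_orbF _ u)
    rwa [he, hu, mem_singleton] at this
  · exact three_sextet hH hT hn P he hxo
  · exact (five_absurd hH hT hn P hu he).elim

end Cfsg.Agent.Mathieu.IndexSub
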