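import Cfsg.Agent.Lib.Mathieu.IndexSub.Tools

/-!
A subgroup of order 887040 of `M24` fixes a duad.
-/

set_option autoImplicit false
set_option maxRecDepth 20000

namespace Cfsg.Agent.Mathieu.IndexSub

open Cfsg Finset
open scoped Pointwise

variable {H : Subgroup (Equiv.Perm GolayPt)}

theorem orbit_sizes276 : ∀ s : Fin 24, 0 < s.val → s.val ∣ 887040 →
    s.val % 7 + 0 % 7 + (24 - s.val - 0) % 7 ≤ 24 % 7 →
    s.val % 11 + 0 % 11 + (24 - s.val - 0) % 11 ≤ 24 % 11 → s.val = 1 ∨ s.val = 2 ∨ s.val = 22 := by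
  decide +kernel

theorem suborbit_sizes276 : ∀ t : Fin 24, 0 < t.val → t.val ∣ 36960 →
    1 % 7 + t.val % 7 + (24 - 1 - t.val) % 7 ≤ 24 % 7 →
    1 % 11 + t.val % 11 + (24 - 1 - t.val) % 11 ≤ 24 % 11 → t.val = 1 ∨ t.val = 22 := by
  decide +kernel

theorem nontrans276 (hH : H ≤ M24) (hn : Nat.card H = 887040)
    (hnt : ¬ ∀ a b : GolayPt, ∃ g ∈ H, g a = b) :
    ∃ s : Finset GolayPt, s.card = 2 ∧ ∀ g ∈ H, g • s = s := by
  push Not at hnt
  obtain ⟨a, b, hab⟩ := hnt
  have hb : b ∉ orbF H a := fun h => by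
    obtain ⟨g, hg, he⟩ := mem_orbF.1 h
    exact hab g hg he
  have hlt : (orbF H a).card < 24 := card_pts ▸ card_lt_univ_of_notMem hb
  have hb7 := split_bound hH (Or.inr (Or.inl rfl)) (by rw [hn]; norm_num) (inv_orbF H a) inv_empty
    (disjoint_empty_right _)
  have hb11 := split_bound hH (Or.inr (Or.inr rfl)) (by rw [hn]; norm_num) (inv_orbF H a) inv_empty
    (disjoint_empty_right _)
  rw [card_empty] at hb7 hb11
  rcases orbit_sizes276 ⟨_, hlt⟩ (card_pos.2 ⟨a, self_mem_orbF H a⟩) (hn ▸ card_orbF_dvd H a)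
      hb7 hb11 with h | h | h <;> simp only at h
  · exfalso
    obtain ⟨q, hq⟩ := card_eq_one.1 h
    have hd := card_dvd_of_fixed hH (s := {a}) (by rw [card_singleton]; norm_num) fun g hg p hp => by
      rw [mem_singleton] at hp
      subst hp
      have h1 : g p ∈ ({q} : Finset GolayPt) := hq ▸ mem_orbF.2 ⟨g, hg, rfl⟩
      have h2 : p ∈ ({q} : Finset GolayPt) := hq ▸ self_mem_orbF H p
      exact (mem_singleton.1 h1).trans (mem_singleton.1 h2).symm
    rw [card_singleton, hn] at hd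
    norm_num [Nat.descFactorial] at hd
  · exact ⟨_, h, fun g hg => (inv_orbF H a).smul_eq hg⟩
  · exact ⟨(orbF H a)ᶜ, by rw [card_compl, h, card_pts], fun g hg => (inv_orbF H a).compl.smul_eq hg⟩

theorem trans276_absurd (hH : H ≤ M24) (hT : ∀ a b : GolayPt, ∃ g ∈ H, g a = b)
    (hn : Nat.card H = 887040) : False := by
  classical
  have hc := card_ptFix_of_trans hT (m := 36960) (by rw [hn])
  set x : GolayPt := none with hxdef
  have hK : ptFix H x ≤ M24 := (ptFix_le x).trans hH
  have fix_single : ∀ {v : GolayPt}, Inv (ptFix H x) {v} → ∀ g ∈ ptFix H x, g v = v :=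
    fun hv g hg => mem_singleton.1 (hv g hg _ (mem_singleton_self _))
  -- one further point is fixed
  obtain ⟨u, hux, hu⟩ : ∃ u, u ≠ x ∧ ∀ g ∈ ptFix H x, g u = u := by
    obtain ⟨q, hq⟩ := exists_ne x
    have hxo := orbF_subset_erase (ptFix_fix (H := H) x) hq
    have hlt : (orbF (ptFix H x) q).card < 24 := card_pts ▸ card_lt_univ_of_notMem hxo
    have b7 := split_bound hK (Or.inr (Or.inl rfl)) (by rw [hc]; norm_num)
      (singleton_inv (ptFix_fix x)) (inv_orbF _ q) (disjoint_singleton_left.2 hxo)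
    have b11 := split_bound hK (Or.inr (Or.inr rfl)) (by rw [hc]; norm_num)
      (singleton_inv (ptFix_fix x)) (inv_orbF _ q) (disjoint_singleton_left.2 hxo)
    rw [card_singleton] at b7 b11
    rcases suborbit_sizes276 ⟨_, hlt⟩ (card_pos.2 ⟨q, self_mem_orbF _ q⟩)
        (hc x ▸ card_orbF_dvd _ q) b7 b11 with h | h <;> simp only at h
    · obtain ⟨v, hv⟩ := card_eq_one.1 h
      have hqv : q = v := mem_singleton.1 (hv ▸ self_mem_orbF (ptFix H x) q)
      exact ⟨q, hq, fix_single (hqv ▸ hv ▸ inv_orbF _ q)⟩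
    · have hI := ((inv_orbF _ q).insert (ptFix_fix (H := H) x)).compl
      have h1 : (insert x (orbF (ptFix H x) q))ᶜ.card = 1 := by
        rw [card_compl, card_insert_of_notMem hxo, h, card_pts]
      obtain ⟨v, hv⟩ := card_eq_one.1 h1
      have hvm : v ∈ (insert x (orbF (ptFix H x) q))ᶜ := hv ▸ mem_singleton_self v
      exact ⟨v, fun e => mem_compl.1 hvm (e ▸ mem_insert_self _ _), fix_single (hv ▸ hI)⟩
  have huniq : ∀ y X X', (X.card = 1 ∧ y ∉ X ∧ Inv (ptFix H y) X) →
      (X'.card = 1 ∧ y ∉ X' ∧ Inv (ptFix H y) X') → X = X' := by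
    rintro y X X' ⟨h1, h2, h3⟩ ⟨h1', h2', h3'⟩
    obtain ⟨v, rfl⟩ := card_eq_one.1 h1
    obtain ⟨v', rfl⟩ := card_eq_one.1 h1'
    by_contra hne
    rw [singleton_inj] at hne
    rw [mem_singleton] at h2 h2'
    have hd := card_dvd_of_fixed ((ptFix_le y).trans hH) (s := {y, v, v'})
      (le_trans card_le_three (by norm_num)) fun g hg p hp => by
        simp only [mem_insert, mem_singleton] at hp
        rcases hp with rfl | rfl | rfl
        exacts [ptFix_fix p g hg, mem_singleton.1 (h3 g hg p (mem_singleton_self p)),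
          mem_singleton.1 (h3' g hg p (mem_singleton_self p))]
    rw [hc, card_insert_of_notMem (by simp [h2, h2']), card_pair hne] at hd
    norm_num [Nat.descFactorial] at hd
  obtain ⟨U, hU, hUx, hUeq⟩ := exists_equivariant hT
    (fun y X => X.card = 1 ∧ y ∉ X ∧ Inv (ptFix H y) X)
    (fun g hg y X h => ⟨by rw [card_smul_finset, h.1], fun h' => h.2.1 (apply_mem_smul_pts.1 h'),
      inv_conj hg h.2.2⟩) huniq (x := x) (X := {u})
    ⟨card_singleton u, by simpa using hux.symm, fun g hg p hp => by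
      rw [mem_singleton] at hp ⊢; rw [hp, hu g hg]⟩
  have hback : U u = {x} := by
    have he : ptFix H x = ptFix H u :=
      ptFix_eq_of_le hT fun g hg => mem_ptFix.2 ⟨(mem_ptFix.1 hg).1, hu g hg⟩
    exact huniq u _ _ (hU u) ⟨card_singleton x, by simpa using hux,
      fun g hg p hp => by rw [mem_singleton] at hp ⊢; rw [hp, ptFix_fix x g (he ▸ hg)]⟩
  refine no_blocks hH (fun y => insert y (U y)) (fun y => mem_insert_self _ _)
    (fun y => by rw [card_insert_of_notMem (hU y).2.1, (hU y).1])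
    (blocks_of_one hT (T := fun y => insert y (U y))
      (fun g hg y => by rw [smul_finset_insert, hUeq g hg y]; rfl) (x := x) fun z hz => ?_)
    (fun g hg y => by rw [smul_finset_insert, hUeq g hg y]; rfl) (Or.inr rfl) (by rw [hn]; norm_num)
    (by norm_num)
  simp only [hUx, mem_insert, mem_singleton] at hz ⊢
  rcases hz with rfl | rfl
  · rw [hUx]
  · rw [hback, pair_comm]

/-- Index 276. -/
theorem case276 (hH : H ≤ M24) (hn : Nat.card H = 887040) :
    ∃ s : Finset GolayPt, s.card = 2 ∧ ∀ g ∈ H, g • s = s :=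
  nontrans276 hH hn fun hT => trans276_absurd hH hT hn

end Cfsg.Agent.Mathieu.IndexSub
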