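import Cfsg.Agent.Lib.Mathieu.IndexSub.Tools

/-!
No transitive subgroup of `M24` has index 759 or 253.
-/

set_option autoImplicit false
set_option maxRecDepth 20000

namespace Cfsg.Agent.Mathieu.IndexSub

open Cfsg Finset
open scoped Pointwise

variable {H : Subgroup (Equiv.Perm GolayPt)}

/-- A heptad completing the point to an octad, invariant under the point's stabiliser. -/
def HeptAt (H : Subgroup (Equiv.Perm GolayPt)) (y : GolayPt) (O : Finset GolayPt) : Prop :=
  O ∈ octads ∧ y ∈ O ∧ Inv (ptFix H y) O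

theorem trans759_absurd (hH : H ≤ M24) (hT : ∀ a b : GolayPt, ∃ g ∈ H, g a = b) {m : ℕ}
    (hm : Nat.card H = 24 * m) (h128 : 128 ∣ m) (h35 : 35 ∣ m) (hm' : m ∣ 40320) : False := by
  classical
  have hc := card_ptFix_of_trans hT hm
  set x : GolayPt := none with hxdef
  have hK : ptFix H x ≤ M24 := (ptFix_le x).trans hH
  have h5m : 5 ∣ m := (show 5 ∣ 35 by norm_num).trans h35
  have h7m : 7 ∣ m := (show 7 ∣ 35 by norm_num).trans h35
  have h5H : 5 ∣ Nat.card H := hm ▸ dvd_mul_of_dvd_right h5m 24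
  have h7H : 7 ∣ Nat.card H := hm ▸ dvd_mul_of_dvd_right h7m 24
  obtain ⟨X, hX, hxX, hX27⟩ := exists_two_or_seven hK (ptFix_fix x) (by rw [hc]; exact h128)
    (by rw [hc]; exact h35) (by rw [hc]; exact hm')
  rcases hX27 with h2 | h7
  · exact no_pair hH hT (by rw [hc]; exact h128) (by rw [hc]; exact h5m) (Or.inl h7H) hX hxX h2
  obtain ⟨P⟩ := rigid23 hK (ptFix_fix x) (by rw [hc]; exact h128)
  obtain ⟨hOct, hWeq⟩ := P.octad_of_seven hX hxX h7
  have huniq : ∀ y O O', HeptAt H y O → HeptAt H y O' → O = O' := by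
    intro y O O' h h'
    obtain ⟨Q⟩ := rigid23 ((ptFix_le y).trans hH) (ptFix_fix y) (by rw [hc]; exact h128)
    have := Q.eq_of_card (h.2.2.erase (ptFix_fix y)) (h'.2.2.erase (ptFix_fix y)) (notMem_erase y O)
      (notMem_erase y O') (by rw [card_erase_of_mem h.2.1, card_erase_of_mem h'.2.1,
        octad_card h.1, octad_card h'.1])
    rw [← insert_erase h.2.1, this, insert_erase h'.2.1]
  obtain ⟨O, hO, hOx, hOeq⟩ := exists_equivariant hT (HeptAt H)
    (fun g hg y O h => ⟨M24_smul_octad (hH hg) h.1, apply_mem_smul_pts.2 h.2.1, inv_conj hg h.2.2⟩)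
    huniq (x := x) (X := insert x X) ⟨hOct, mem_insert_self _ _, hX.insert (ptFix_fix x)⟩
  obtain ⟨g5, hg5, hord5⟩ := exists_order (by norm_num : (5 : ℕ).Prime)
    (show 5 ∣ Nat.card (ptFix H x) by rw [hc]; exact h5m)
  obtain ⟨g7, hg7, hord7⟩ := exists_order (by norm_num : (7 : ℕ).Prime)
    (show 7 ∣ Nat.card (ptFix H x) by rw [hc]; exact h7m)
  have hf5 : (fixS g5).card = 4 := fix_card (hK hg5) (Or.inl rfl) hord5
  have hf7 : (fixS g7).card = 3 := fix_card (hK hg7) (Or.inr (Or.inl rfl)) hord7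
  -- the seven points form one orbit
  have horb : ∀ a ∈ X, ∀ b ∈ X, ∃ k ∈ ptFix H x, k a = b := by
    intro a ha b hb
    set Z : Subgroup (Equiv.Perm GolayPt) := Subgroup.zpowers g7 with hZ
    have hZK : Z ≤ ptFix H x := Subgroup.zpowers_le.2 hg7
    have hmv : g7 a ≠ a := by
      intro h
      have h1 := card_inter_fix_mod (by norm_num : (7 : ℕ).Prime) hord7 (hX.mem_iff hg7)
      have h2 : 0 < (X ∩ fixS g7).card := card_pos.2 ⟨a, mem_inter.2 ⟨ha, mem_fixS.2 h⟩⟩
      have h3 : (X ∩ fixS g7).card ≤ (fixS g7).card := card_le_card inter_subset_right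
      omega
    have hdvd := card_orbF_dvd Z a
    rw [show Nat.card Z = 7 from (Nat.card_zpowers g7).trans hord7] at hdvd
    have h2 : 1 < (orbF Z a).card := one_lt_card.2 ⟨g7 a,
      mem_orbF.2 ⟨g7, Subgroup.mem_zpowers _, rfl⟩, a, self_mem_orbF _ _, hmv⟩
    have hseven : (orbF Z a).card = 7 := by
      rcases (Nat.dvd_prime (by norm_num)).1 hdvd with h | h
      · omega
      · exact h
    have he : orbF Z a = X :=
      eq_of_subset_of_card_le (orbF_subset (hX.mono hZK) ha) (by rw [h7, hseven])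
    obtain ⟨k, hk, hka⟩ := mem_orbF.1 (he.symm ▸ hb : b ∈ orbF Z a)
    exact ⟨k, hZK hk, hka⟩
  have hmapx : ∀ k ∈ ptFix H x, k • O x = O x := fun k hk => by
    rw [hOeq k (mem_ptFix.1 hk).1, (mem_ptFix.1 hk).2]
  have hOxX : ∀ y, y ∈ O x ↔ y = x ∨ y ∈ X := fun y => by rw [hOx, mem_insert]
  by_cases hall : ∀ y ∈ X, O y = O x
  · refine no_blocks hH O (fun y => (hO y).2.1) (fun y => octad_card (hO y).1)
      (blocks_of_one hT hOeq (x := x) fun z hz => ?_) hOeq (Or.inl rfl) h5H (by norm_num)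
    rcases (hOxX z).1 hz with rfl | h
    exacts [rfl, hall z h]
  push Not at hall
  obtain ⟨y0, hy0, hne0⟩ := hall
  have hne : ∀ y ∈ X, O y ≠ O x := by
    intro y hy h
    obtain ⟨k, hk, rfl⟩ := horb y hy y0 hy0
    exact hne0 (by rw [← hOeq k (mem_ptFix.1 hk).1, h, hmapx k hk])
  -- a point of the seven fixed by the element of order five
  have hX5 : (X ∩ fixS g5).card = 2 := by
    have h1 := card_inter_fix_mod (by norm_num : (5 : ℕ).Prime) hord5 (hX.mem_iff hg5)
    have h3 : (X ∩ fixS g5).card ≤ (fixS g5).card := card_le_card inter_subset_right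
    omega
  obtain ⟨y1, hy1⟩ : (X ∩ fixS g5).Nonempty := card_pos.1 (by omega)
  rw [mem_inter, mem_fixS] at hy1
  have hO5 : (O x ∩ fixS g5).card = 3 := by
    rw [hOx, insert_inter_of_mem (mem_fixS.2 (mem_ptFix.1 hg5).2), card_insert_of_notMem
      (fun h => hxX (mem_inter.1 h).1), hX5]
  have hI1 : (O x ∩ O y1).card = 2 := by
    have hne1 := hne y1 hy1.1
    have hy1x : y1 ∈ O x ∩ O y1 := mem_inter.2 ⟨(hOxX y1).2 (Or.inr hy1.1), (hO y1).2.1⟩
    rcases octad_inter_card (hO x).1 (hO y1).1 hne1.symm with h | h | h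
    · exact absurd h (card_pos.2 ⟨y1, hy1x⟩).ne'
    · exact h
    exfalso
    have hg5y : g5 ∈ ptFix H y1 := mem_ptFix.2 ⟨(mem_ptFix.1 hg5).1, hy1.2⟩
    have hsub := subset_fix_of_small (by norm_num) hord5 (X := O x ∩ O y1)
      (fun a => by rw [mem_inter, mem_inter, (hO x).2.2.mem_iff hg5, (hO y1).2.2.mem_iff hg5y])
      (by rw [h]; norm_num)
    have := card_le_card (show O x ∩ O y1 ⊆ O x ∩ fixS g5 from
      fun a ha => mem_inter.2 ⟨(mem_inter.1 ha).1, hsub ha⟩)
    omega
  -- six points of each octad lie among the sixteen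
  have h6 : ∀ y ∈ X, ((O x)ᶜ ∩ O y).card = 6 := by
    intro y hy
    obtain ⟨k, hk, rfl⟩ := horb y1 hy1.1 y hy
    have h2 : (O x ∩ O (k y1)).card = 2 := by
      rw [← hOeq k (mem_ptFix.1 hk).1, ← hmapx k hk, ← smul_inter_pts, card_smul_finset, hI1]
    have := card_inter_add_card_sdiff (O (k y1)) (O x)
    rw [inter_comm, h2, octad_card (hO _).1, sdiff_eq_inter_compl, inter_comm (O (k y1)) (O x)ᶜ] at this
    omega
  -- the sixteen form one orbit
  have hW : (O x)ᶜ = P.W := by rw [hOx]; exact hWeq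
  have h16 : (O x)ᶜ.card = 16 := by rw [hW, P.card_W]
  set In : GolayPt → Finset GolayPt := fun w => X.filter fun y => w ∈ O y with hIn
  obtain ⟨w0, hw0⟩ : ((O x)ᶜ).Nonempty := card_pos.1 (by omega)
  have hInc : ∀ w ∈ (O x)ᶜ, (In w).card = (In w0).card := by
    intro w hw
    have hmem : w ∈ orbF (ptFix H x) w0 := by
      rw [hW] at hw hw0
      exact ((P.whole _ (inv_orbF _ w0)).2.2.2.resolve_right fun h =>
        disjoint_left.1 h hw0 (self_mem_orbF _ _)) hw
    obtain ⟨k, hk, rfl⟩ := mem_orbF.1 hmem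
    have : In (k w0) = k • In w0 := by
      ext y
      obtain ⟨z, rfl⟩ := k.surjective y
      simp only [hIn, apply_mem_smul_pts, mem_filter, hX.mem_iff hk, ← hOeq k (mem_ptFix.1 hk).1 z]
    rw [this, card_smul_finset]
  have htot := sum_card_bipartiteAbove_eq_sum_card_bipartiteBelow
    (fun y w : GolayPt => w ∈ O y) (s := X) (t := (O x)ᶜ)
  rw [sum_const_nat (m := 6) (fun y hy => by
    rw [bipartiteAbove, filter_mem_eq_inter]; exact h6 y hy)] at htot
  have hbel : ∀ w ∈ (O x)ᶜ, (X.bipartiteBelow (fun y w => w ∈ O y) w).card = (In w0).card :=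
    fun w hw => (congrArg card (by ext; simp [bipartiteBelow, hIn])).trans (hInc w hw)
  rw [sum_const_nat hbel, h7, h16] at htot
  omega

/-- Index 759. -/
theorem case759 (hH : H ≤ M24) (hn : Nat.card H = 322560) :
    ∃ O ∈ octads, ∀ g ∈ H, g • O = O := by
  refine nontrans_octad hH (by rw [hn]; norm_num) fun hT => ?_
  exact trans759_absurd hH hT (m := 13440) (by rw [hn]) (by norm_num) (by norm_num) (by norm_num)

end Cfsg.Agent.Mathieu.IndexSub
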