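import Cfsg.Agent.Lib.Mathieu.IndexSub.Case759
import Cfsg.Agent.Lib.Mathieu.IndexSub.Case276
import Cfsg.Agent.Lib.Mathieu.IndexSub.Case1771
import Cfsg.Agent.Lib.Mathieu.Stab.Covers

/-!
From fixed objects to stabilisers.
-/

set_option autoImplicit false
set_option maxRecDepth 20000

namespace Cfsg.Agent.Mathieu.IndexSub

open Cfsg Finset
open scoped Pointwise

theorem eq_of_le_of_index {G : Type*} [Group G] {A B : Subgroup G} {c : ℕ} (h : A ≤ B)
    (hA : A.index = c) (hB : B.index = c) (hc : c ≠ 0) : A = B := by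
  have := Subgroup.relIndex_mul_index h
  rw [hA, hB] at this
  exact le_antisymm h (Subgroup.relIndex_eq_one.1 (Nat.eq_of_mul_eq_mul_right
    (Nat.pos_of_ne_zero hc) (this.trans (one_mul c).symm)))

theorem index_stab {G : Type*} [Group G] {β : Type*} [MulAction G β] {all : Set β} {x0 X : β}
    (h : MulAction.orbit G x0 = all) (hX : X ∈ all) {c : ℕ} (hc : all.ncard = c) :
    (MulAction.stabilizer G X).index = c := by
  rw [MulAction.index_stabilizer, MulAction.orbit_eq_iff.2 (h.symm ▸ hX : X ∈ MulAction.orbit G x0),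
    h, hc]

theorem card_of_index {A : Subgroup ↥M24} {c m : ℕ} (h : A.index = c) (hcm : m * c = 244823040)
    (hc : c ≠ 0) : Nat.card (A.map M24.subtype) = m := by
  rw [← Nat.card_congr (Subgroup.equivMapOfInjective A _ M24.subtype_injective).toEquiv]
  have := A.card_mul_index
  rw [h, card_M24, ← hcm] at this
  exact Nat.eq_of_mul_eq_mul_right (Nat.pos_of_ne_zero hc) this

theorem no253 {H : Subgroup (Equiv.Perm GolayPt)} (hH : H ≤ M24) (hn : Nat.card H = 967680) :
    False := by
  by_cases hT : ∀ a b : GolayPt, ∃ g ∈ H, g a = b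
  · exact trans759_absurd hH hT (m := 40320) (by rw [hn]) (by norm_num) (by norm_num) dvd_rfl
  obtain ⟨O, hO, hfix⟩ := nontrans_octad hH (by rw [hn]; norm_num) hT
  have hle : H.subgroupOf M24 ≤ MulAction.stabilizer M24 O := fun g hg => hfix g.1 hg
  have hd := Subgroup.card_dvd_of_le hle
  have hm := (MulAction.stabilizer M24 O).card_mul_index
  rw [index_stab oct_cover.1 hO octads_ncard, card_M24] at hm
  rw [Nat.card_congr (Subgroup.subgroupOfEquivOfLe hH).toEquiv, hn,
    show Nat.card (MulAction.stabilizer M24 O) = 322560 by omega] at hd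
  norm_num at hd

/-! ### Through one point -/

theorem card_octads_at (x : GolayPt) : {o | o ∈ octads ∧ x ∈ o}.ncard = 253 := by
  classical
  set F : GolayPt → Finset (Finset GolayPt) := fun p => octadSet.filter fun o => p ∈ o with hF
  have hset : {o | o ∈ octads ∧ x ∈ o} = ↑(F x) := by ext o; simp [hF, mem_octadSet]
  have heq : ∀ p, (F p).card = (F x).card := fun p => by
    obtain ⟨g, hg, rfl⟩ := M24_exists_map_point x p
    have : F (g x) = g • F x := by
      ext o
      rw [← inv_smul_mem_iff]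
      simp only [hF, mem_filter, mem_octadSet]
      refine ⟨fun ⟨h1, h2⟩ => ⟨M24_smul_octad (inv_mem hg) h1, ?_⟩, fun ⟨h1, h2⟩ => ⟨?_, ?_⟩⟩
      · rw [mem_inv_smul_finset_iff]; exact h2
      · simpa using M24_smul_octad hg h1
      · rw [mem_inv_smul_finset_iff] at h2; exact h2
    rw [this, card_smul_finset]
  have htot := sum_card_bipartiteAbove_eq_sum_card_bipartiteBelow
    (fun (o : Finset GolayPt) (p : GolayPt) => p ∈ o) (s := octadSet) (t := univ)
  rw [sum_const_nat (m := 8) (fun o ho => by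
    rw [bipartiteAbove, filter_mem_eq_inter, univ_inter, octad_card (mem_octadSet.1 ho)])] at htot
  have hbel : ∀ p ∈ (univ : Finset GolayPt),
      (octadSet.bipartiteBelow (fun o p => p ∈ o) p).card = (F x).card := fun p _ =>
    (congrArg card (by ext; simp [bipartiteBelow, hF])).trans (heq p)
  rw [sum_const_nat hbel, card_univ, card_pts, card_octadSet] at htot
  rw [hset, Set.ncard_coe_finset]
  omega

theorem orbit_octads_at {x : GolayPt} {o : Finset GolayPt} (ho : o ∈ octads) (hx : x ∈ o) :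
    MulAction.orbit (MulAction.stabilizer M24 x) o = {o | o ∈ octads ∧ x ∈ o} := by
  ext o'
  refine ⟨?_, fun ⟨ho', hx'⟩ => ?_⟩
  · rintro ⟨⟨⟨g, hg⟩, hgx⟩, rfl⟩
    refine ⟨M24_smul_octad hg ho, ?_⟩
    have := apply_mem_smul_pts (σ := g).2 hx
    rwa [show g x = x from hgx] at this
  · obtain ⟨a, ha⟩ := exists_embedding_of_le_card (k := 4) (s := o.erase x)
      (by rw [card_erase_of_mem hx, octad_card ho]; norm_num)
    obtain ⟨b, hb⟩ := exists_embedding_of_le_card (k := 4) (s := o'.erase x)
      (by rw [card_erase_of_mem hx', octad_card ho']; norm_num)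
    simp only [mem_erase] at ha hb
    obtain ⟨g, hg, hgo, hgi⟩ := M24_exists_map_octad ho ho'
      ⟨Fin.cons x a, Fin.cons_injective_iff.2 ⟨by rintro ⟨i, hi⟩; exact (ha i).1 hi, a.injective⟩⟩
      ⟨Fin.cons x b, Fin.cons_injective_iff.2 ⟨by rintro ⟨i, hi⟩; exact (hb i).1 hi, b.injective⟩⟩
      (Fin.cases hx fun i => (ha i).2) (Fin.cases hx' fun i => (hb i).2)
    exact ⟨⟨⟨g, hg⟩, hgi 0⟩, hgo⟩

theorem card_duads_off (x : GolayPt) : {s : Finset GolayPt | s.card = 2 ∧ x ∉ s}.ncard = 253 := by
  have h : {s : Finset GolayPt | s.card = 2 ∧ x ∉ s} = ↑((univ.erase x).powersetCard 2) := by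
    ext s
    simp only [Set.mem_ofPred_eq, mem_coe, mem_powersetCard, subset_erase, subset_univ, true_and]
    exact and_comm
  rw [h, Set.ncard_coe_finset, card_powersetCard, card_erase_of_mem (mem_univ x), card_univ, card_pts]
  decide +kernel

theorem orbit_duads_off {x : GolayPt} {s : Finset GolayPt} (hs : s.card = 2) (hx : x ∉ s) :
    MulAction.orbit (MulAction.stabilizer M24 x) s = {s : Finset GolayPt | s.card = 2 ∧ x ∉ s} := by
  ext s'
  refine ⟨?_, fun ⟨hs', hx'⟩ => ?_⟩
  · rintro ⟨⟨⟨g, hg⟩, hgx⟩, rfl⟩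
    refine ⟨(card_smul_finset g s).trans hs, fun h => hx ?_⟩
    have h' : g x ∈ g • s := by rw [show g x = x from hgx]; exact h
    exact apply_mem_smul_pts.1 h'
  · obtain ⟨a, b, hab, rfl⟩ := card_eq_two.1 hs
    obtain ⟨a', b', hab', rfl⟩ := card_eq_two.1 hs'
    simp only [mem_insert, mem_singleton, not_or] at hx hx'
    obtain ⟨g, hg, hgi⟩ := M24_exists_map (k := 3) (by norm_num)
      ⟨![x, a, b], by intro i j; fin_cases i <;> fin_cases j <;> simp [hx, hab, hab.symm, Ne.symm hx.1, Ne.symm hx.2]⟩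
      ⟨![x, a', b'], by intro i j; fin_cases i <;> fin_cases j <;> simp [hx', hab', hab'.symm, Ne.symm hx'.1, Ne.symm hx'.2]⟩
    refine ⟨⟨⟨g, hg⟩, hgi 0⟩, ?_⟩
    show g • ({a, b} : Finset GolayPt) = {a', b'}
    rw [smul_finset_insert, smul_finset_singleton]
    exact congrArg₂ (fun p q => ({p, q} : Finset GolayPt)) (hgi 1) (hgi 2)

theorem card_of_index_point {x : GolayPt} {A : Subgroup ↥(MulAction.stabilizer M24 x)}
    (h : A.index = 253) :
    Nat.card ((A.map (MulAction.stabilizer M24 x).subtype).map M24.subtype) = 40320 := by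
  rw [← Nat.card_congr (Subgroup.equivMapOfInjective _ _ M24.subtype_injective).toEquiv,
    ← Nat.card_congr (Subgroup.equivMapOfInjective A _ (Subgroup.subtype_injective _)).toEquiv]
  have h1 := A.card_mul_index
  have h2 := (MulAction.stabilizer M24 x).card_mul_index
  have horb : MulAction.orbit M24 x = Set.univ := Set.eq_univ_of_forall fun q => by
    obtain ⟨g, hg, hq⟩ := M24_exists_map_point x q
    exact ⟨⟨g, hg⟩, hq⟩
  rw [MulAction.index_stabilizer, horb, Set.ncard_univ,
    show Nat.card GolayPt = 24 from Nat.card_eq_fintype_card.trans card_pts, card_M24] at h2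
  rw [h] at h1
  omega

end Cfsg.Agent.Mathieu.IndexSub
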