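import Cfsg.Agent.Lib.Mathieu.IndexSub.Points

/-!
Subgroups fixing a point: which invariant sets of 2 or 7 points (or 3, 1, 5) are forced by the order;
transitive subgroups: systems of small blocks cannot exist.
-/

set_option autoImplicit false
set_option linter.constructorNameAsVariable false
set_option maxRecDepth 20000

namespace Cfsg.Agent.Mathieu.IndexSub

open Cfsg Finset
open scoped Pointwise

variable {x : GolayPt} {K : Subgroup (Equiv.Perm GolayPt)}

/-- An invariant set missing the fixed point is a union of parts. -/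
theorem Parts.decomp (P : Parts x K) {X : Finset GolayPt} (hX : Inv K X) (hx : x ∉ X) :
    ∃ a b c d : Bool, X = ((if a then P.U else ∅) ∪ (if b then P.D else ∅)) ∪
        ((if c then P.F else ∅) ∪ (if d then P.W else ∅)) ∧
      (a = true ↔ P.U ⊆ X) ∧ (b = true ↔ P.D ⊆ X) := by
  classical
  obtain ⟨h1, h2, h3, h4⟩ := P.whole X hX
  refine ⟨decide (P.U ⊆ X), decide (P.D ⊆ X), decide (P.F ⊆ X), decide (P.W ⊆ X), ?_, by simp, by simp⟩
  ext q
  simp only [mem_union, decide_eq_true_eq]
  constructor
  · intro hq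
    rcases P.cover q with rfl | h | h | h | h
    · exact absurd hq hx
    · left; left; rw [if_pos (h1.resolve_right fun d => disjoint_left.1 d h hq)]; exact h
    · left; right; rw [if_pos (h2.resolve_right fun d => disjoint_left.1 d h hq)]; exact h
    · right; left; rw [if_pos (h3.resolve_right fun d => disjoint_left.1 d h hq)]; exact h
    · right; right; rw [if_pos (h4.resolve_right fun d => disjoint_left.1 d h hq)]; exact h
  · intro h
    rcases h with (h | h) | h | h <;> split at h <;> first | exact absurd h (notMem_empty _) |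
      (rename_i hs; exact hs h)

theorem Parts.univ_eq (P : Parts x K) :
    (univ.erase x) = (P.U ∪ P.D) ∪ (P.F ∪ P.W) := by
  ext q
  simp only [mem_erase, mem_univ, and_true, mem_union]
  constructor
  · intro h
    rcases P.cover q with e | e | e | e | e
    exacts [absurd e h, Or.inl (Or.inl e), Or.inl (Or.inr e), Or.inr (Or.inl e), Or.inr (Or.inr e)]
  · rintro ((h | h) | h | h) rfl
    exacts [P.notMem.1 h, P.notMem.2.1 h, P.notMem.2.2.1 h, P.notMem.2.2.2 h]

theorem Parts.disjoint (P : Parts x K) : Disjoint P.U P.D ∧ Disjoint P.F P.W ∧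
    Disjoint (P.U ∪ P.D) (P.F ∪ P.W) := by
  have h23 : (univ.erase x : Finset GolayPt).card = 23 := by
    rw [card_erase_of_mem (mem_univ x), card_univ, Fintype.card_option, ZMod.card]
  rw [P.univ_eq] at h23
  have h1 := card_union_add_card_inter (P.U ∪ P.D) (P.F ∪ P.W)
  have h2 := card_union_add_card_inter P.U P.D
  have h3 := card_union_add_card_inter P.F P.W
  rw [P.card_U, P.card_D] at h2
  rw [P.card_F, P.card_W] at h3
  exact ⟨disjoint_iff_inter_eq_empty.2 (card_eq_zero.1 (by omega)),
    disjoint_iff_inter_eq_empty.2 (card_eq_zero.1 (by omega)),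
    disjoint_iff_inter_eq_empty.2 (card_eq_zero.1 (by omega))⟩

/-- The number of points of a union of parts. -/
def bval (a b c d : Bool) : ℕ :=
  (if a then 1 else 0) + (if b then 2 else 0) + ((if c then 4 else 0) + if d then 16 else 0)

theorem bval_inj : ∀ a b c d a' b' c' d', bval a b c d = bval a' b' c' d' →
    a = a' ∧ b = b' ∧ c = c' ∧ d = d' := by decide

theorem Parts.card_union (P : Parts x K) (a b c d : Bool) :
    (((if a then P.U else ∅) ∪ (if b then P.D else ∅)) ∪
      ((if c then P.F else ∅) ∪ (if d then P.W else ∅))).card = bval a b c d := by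
  obtain ⟨h1, h2, h3⟩ := P.disjoint
  rw [card_union_of_disjoint, card_union_of_disjoint, card_union_of_disjoint]
  · cases a <;> cases b <;> cases c <;> cases d <;>
      simp [bval, P.card_U, P.card_D, P.card_F, P.card_W]
  · cases c <;> cases d <;> simp [h2]
  · cases a <;> cases b <;> simp [h1]
  · refine disjoint_of_subset_left ?_ (disjoint_of_subset_right ?_ h3) <;>
      cases a <;> cases b <;> cases c <;> cases d <;> simp

/-- Invariant sets missing the fixed point are known by their sizes. -/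
theorem Parts.eq_of_card (P : Parts x K) {X Y : Finset GolayPt} (hX : Inv K X) (hY : Inv K Y)
    (hx : x ∉ X) (hy : x ∉ Y) (h : X.card = Y.card) : X = Y := by
  obtain ⟨a, b, c, d, rfl, -, -⟩ := P.decomp hX hx
  obtain ⟨a', b', c', d', rfl, -, -⟩ := P.decomp hY hy
  rw [P.card_union, P.card_union] at h
  obtain ⟨rfl, rfl, rfl, rfl⟩ := bval_inj _ _ _ _ _ _ _ _ h
  rfl

/-- A set of seven points that is invariant makes an octad with the fixed point. -/
theorem Parts.octad_of_seven (P : Parts x K) {X : Finset GolayPt} (hX : Inv K X) (hx : x ∉ X)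
    (h7 : X.card = 7) : insert x X ∈ octads ∧ (insert x X)ᶜ = P.W := by
  obtain ⟨a, b, c, d, e, -, -⟩ := P.decomp hX hx
  rw [e, P.card_union] at h7
  obtain ⟨rfl, rfl, rfl, rfl⟩ : a = true ∧ b = true ∧ c = true ∧ d = false := by
    revert h7; clear e; revert a b c d; decide
  simp only [if_true, Bool.false_eq_true, if_false, union_empty] at e
  refine ⟨e ▸ P.heptad, ?_⟩
  obtain ⟨-, h2, h3⟩ := P.disjoint
  ext q
  simp only [mem_compl, mem_insert, e, mem_union, not_or]
  constructor
  · rintro ⟨h0, ⟨hu, hd⟩, hf⟩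
    rcases P.cover q with e | e | e | e | e
    exacts [absurd e h0, absurd e hu, absurd e hd, absurd e hf, e]
  · intro hq
    refine ⟨fun e => P.notMem.2.2.2 (e ▸ hq), ⟨fun h => ?_, fun h => ?_⟩, disjoint_right.1 h2 hq⟩
    · exact disjoint_left.1 h3 (mem_union_left _ h) (mem_union_right _ hq)
    · exact disjoint_left.1 h3 (mem_union_right _ h) (mem_union_right _ hq)

/-- The orbit of the point in the first part. -/
theorem Parts.orbit_U (P : Parts x K) (hKx : ∀ g ∈ K, g x = x) {u : GolayPt} (hu : P.U = {u}) :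
    ∃ b c d : Bool, (orbF K u).card = bval true b c d ∧ (b = true ↔ P.D ⊆ orbF K u) := by
  have hne : u ≠ x := fun e => P.notMem.1 (by rw [hu, e]; exact mem_singleton_self x)
  obtain ⟨a, b, c, d, he, ha, hb⟩ := P.decomp (inv_orbF K u) (orbF_subset_erase hKx hne)
  have : a = true := ha.2 (by rw [hu, singleton_subset_iff]; exact self_mem_orbF K u)
  subst this
  exact ⟨b, c, d, by rw [he, P.card_union], hb⟩

theorem singleton_inv (hKx : ∀ g ∈ K, g x = x) : Inv K {x} := fun g hg p hp => by
  rw [mem_singleton] at hp ⊢; rw [hp]; exact hKx g hg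

theorem exists_U (P : Parts x K) : ∃ u, P.U = {u} := card_eq_one.1 P.card_U

/-- Order divisible by `2^7·5·7`, prime to 11: an invariant pair or heptad. -/
theorem exists_two_or_seven (hK : K ≤ M24) (hKx : ∀ g ∈ K, g x = x) (h128 : 128 ∣ Nat.card K)
    (h35 : 35 ∣ Nat.card K) (hn : Nat.card K ∣ 40320) :
    ∃ X : Finset GolayPt, Inv K X ∧ x ∉ X ∧ (X.card = 2 ∨ X.card = 7) := by
  obtain ⟨P⟩ := rigid23 hK hKx h128
  obtain ⟨u, hu⟩ := exists_U P
  obtain ⟨b, c, d, hs, -⟩ := P.orbit_U hKx hu
  have hdvd : bval true b c d ∣ 40320 := hs ▸ (card_orbF_dvd K u).trans hn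
  have hne : u ≠ x := fun e => P.notMem.1 (by rw [hu, e]; exact mem_singleton_self x)
  have hxo := orbF_subset_erase hKx hne
  have bound : ∀ {p : ℕ}, p = 5 ∨ p = 7 → ∀ {A B : Finset GolayPt}, Inv K A → Inv K B → Disjoint A B →
      A.card % p + B.card % p + (24 - A.card - B.card) % p ≤ 24 % p := fun hp _ _ hA hB hd =>
    split_bound hK (hp.elim Or.inl fun h => Or.inr (Or.inl h))
      ((show _ ∣ 35 by rcases hp with rfl | rfl <;> norm_num).trans h35) hA hB hd
  have h5 := bound (Or.inl rfl) (singleton_inv hKx) (inv_orbF K u) (disjoint_singleton_left.2 hxo)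
  have h7 := bound (Or.inr rfl) (singleton_inv hKx) (inv_orbF K u) (disjoint_singleton_left.2 hxo)
  rw [card_singleton, hs] at h5 h7
  have hcases : bval true b c d = 7 ∨ bval true b c d = 21 ∨ bval true b c d = 1 := by
    revert hdvd h5 h7; clear hs; revert b c d; decide
  rcases hcases with h | h | h
  · exact ⟨orbF K u, inv_orbF K u, hxo, Or.inr (hs.trans h)⟩
  · refine ⟨(insert x (orbF K u))ᶜ, Inv.compl fun g hg q hq => ?_, by simp, Or.inl ?_⟩
    · rcases mem_insert.1 hq with rfl | hq
      · rw [hKx g hg]; exact mem_insert_self _ _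
      · exact mem_insert_of_mem (inv_orbF K u g hg q hq)
    · rw [card_compl, card_insert_of_notMem hxo, hs, h, Fintype.card_option, ZMod.card]
  · exfalso
    obtain ⟨w, hw⟩ : P.D.Nonempty := card_pos.1 (by rw [P.card_D]; norm_num)
    have hwne : w ≠ x := fun e => P.notMem.2.1 (e ▸ hw)
    obtain ⟨a', b', c', d', he, ha', hb'⟩ := P.decomp (inv_orbF K w) (orbF_subset_erase hKx hwne)
    have hb'' : b' = true := hb'.2 ((P.whole _ (inv_orbF K w)).2.1.resolve_right
      fun h => disjoint_left.1 h hw (self_mem_orbF K w))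
    have hu1 : orbF K u = {u} :=
      (eq_of_subset_of_card_le (singleton_subset_iff.2 (self_mem_orbF K u))
        (by rw [hs, h, card_singleton])).symm
    have hwu : u ∉ orbF K w := fun hm => by
      obtain ⟨g, hg, hge⟩ := mem_orbF.1 hm
      have : g u ∈ ({u} : Finset GolayPt) := hu1 ▸ mem_orbF.2 ⟨g, hg, rfl⟩
      have hwu : w = u := g.injective (hge.trans (mem_singleton.1 this).symm)
      exact disjoint_left.1 P.disjoint.1 (hu ▸ mem_singleton_self u) (hwu ▸ hw)
    have ha'' : a' = false := by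
      rw [← Bool.not_eq_true]
      exact fun e => hwu (ha'.1 e (hu ▸ mem_singleton_self u))
    subst ha'' hb''
    have ht : (orbF K w).card = bval false true c' d' := by rw [he, P.card_union]
    have hpair : Inv K {x, u} := fun g hg q hq => by
      rcases mem_insert.1 hq with rfl | hq
      · rw [hKx g hg]; exact mem_insert_self _ _
      · rw [mem_singleton] at hq
        subst hq
        have : g q ∈ ({q} : Finset GolayPt) := hu1 ▸ mem_orbF.2 ⟨g, hg, rfl⟩
        exact mem_insert_of_mem this
    have hdj : Disjoint ({x, u} : Finset GolayPt) (orbF K w) := by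
      simp [disjoint_insert_left, orbF_subset_erase hKx hwne, hwu]
    have h5' := bound (Or.inl rfl) hpair (inv_orbF K w) hdj
    have h7' := bound (Or.inr rfl) hpair (inv_orbF K w) hdj
    rw [card_pair hne.symm, ht] at h5' h7'
    have hd' : bval false true c' d' ∣ 40320 := ht ▸ (card_orbF_dvd K w).trans hn
    revert h5' h7' hd'; clear he ht; revert c' d'; decide

/-! ### Transitive subgroups -/

variable {H : Subgroup (Equiv.Perm GolayPt)}

theorem card_orbF_of_trans (hT : ∀ a b : GolayPt, ∃ g ∈ H, g a = b) (a : GolayPt) :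
    Nat.card H = 24 * Nat.card (ptFix H a) := by
  rw [card_ptFix a, show orbF H a = univ from eq_univ_of_forall fun b => mem_orbF.2 (hT a b),
    card_univ, Fintype.card_option, ZMod.card]

theorem inv_conj {X : Finset GolayPt} {g : Equiv.Perm GolayPt} (hg : g ∈ H)
    (hX : Inv (ptFix H x) X) : Inv (ptFix H (g x)) (g • X) := by
  intro k hk q hq
  rw [mem_ptFix] at hk
  have hk' : g⁻¹ * k * g ∈ ptFix H x :=
    mem_ptFix.2 ⟨mul_mem (mul_mem (inv_mem hg) hk.1) hg, by simp [hk.2]⟩
  rw [← inv_smul_mem_iff] at hq ⊢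
  have := hX _ hk' _ hq
  simpa [Equiv.Perm.smul_def] using this

/-- An element of small fixed set cannot permute few small blocks. -/
theorem no_blocks (hH : H ≤ M24) (T : GolayPt → Finset GolayPt) {b : ℕ}
    (hself : ∀ y, y ∈ T y) (hcard : ∀ y, (T y).card = b) (heq : ∀ y, ∀ z ∈ T y, T z = T y)
    (hg : ∀ g ∈ H, ∀ y, g • T y = T (g y)) {p : ℕ} (hp : p = 5 ∨ p = 7) (hd : p ∣ Nat.card H)
    (hm : 24 % p < (24 / b) % p * (b % p)) : False := by
  have hpp : p.Prime := by rcases hp with rfl | rfl <;> norm_num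
  obtain ⟨g, hgH, hord⟩ := exists_order hpp hd
  set 𝔅 := (univ : Finset GolayPt).image T with h𝔅
  have hdisj : (𝔅 : Set (Finset GolayPt)).PairwiseDisjoint id := by
    intro A hA B hB hne
    obtain ⟨a, -, rfl⟩ := mem_image.1 hA
    obtain ⟨c, -, rfl⟩ := mem_image.1 hB
    exact disjoint_left.2 fun q hq hq' => hne ((heq a q hq).symm.trans (heq c q hq'))
  have hmem : ∀ B ∈ 𝔅, B.card = b := fun B hB => by
    obtain ⟨a, -, rfl⟩ := mem_image.1 hB; exact hcard a
  have h24 : 24 = 𝔅.card * b := by
    have : 𝔅.biUnion id = univ :=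
      eq_univ_of_forall fun q => by
        rw [mem_biUnion]
        exact ⟨T q, mem_image_of_mem T (mem_univ q), hself q⟩
    have hc := congrArg card this
    rw [card_biUnion hdisj] at hc
    simp only [id_eq] at hc
    rw [sum_const_nat hmem, card_univ, Fintype.card_option, ZMod.card] at hc
    omega
  let σ : Equiv.Perm (Finset GolayPt) := MulAction.toPermHom (Equiv.Perm GolayPt) _ g
  have hσ : σ ^ p = 1 := by rw [← map_pow, ← hord, pow_orderOf_eq_one, map_one]
  have hσB : ∀ B, σ B = g • B := fun B => rfl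
  have hinv : ∀ B, σ B ∈ 𝔅 ↔ B ∈ 𝔅 := by
    intro B
    constructor
    · intro hB
      rw [hσB] at hB
      obtain ⟨a, -, ha⟩ := mem_image.1 hB
      refine mem_image.2 ⟨g⁻¹ a, mem_univ _, ?_⟩
      rw [← hg g⁻¹ (inv_mem hgH) a, ha]
      exact inv_smul_smul g B
    · intro hB
      rw [hσB]
      obtain ⟨a, -, rfl⟩ := mem_image.1 hB
      rw [hg g hgH a]
      exact mem_image_of_mem T (mem_univ _)
  have hmod := card_filter_fix_modEq hpp hσ hinv
  set FB := 𝔅.filter fun B => σ B = B with hFB
  have hsub : FB.biUnion (fun B => B ∩ fixS g) ⊆ fixS g := by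
    intro q hq
    rw [mem_biUnion] at hq
    obtain ⟨B, -, hqB⟩ := hq
    exact (mem_inter.1 hqB).2
  have hle := card_le_card hsub
  rw [card_biUnion, fix_card (hH hgH) (hp.elim Or.inl fun h => Or.inr (Or.inl h)) hord] at hle
  swap
  · intro A hA B hB hne
    exact disjoint_of_subset_left inter_subset_left (disjoint_of_subset_right inter_subset_left
      (hdisj (mem_filter.1 hA).1 (mem_filter.1 hB).1 hne))
  have hlow : FB.card * (b % p) ≤ ∑ B ∈ FB, (B ∩ fixS g).card := by
    rw [← smul_eq_mul]
    refine card_nsmul_le_sum _ _ _ fun B hB => ?_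
    rw [hFB, mem_filter, hσB] at hB
    rw [← hmem B hB.1]
    refine (card_inter_fix_mod hpp hord fun a => ?_).symm.le.trans (Nat.mod_le _ _)
    conv_lhs => rw [← hB.2]
    exact apply_mem_smul_pts
  have hb0 : 0 < b := hcard none ▸ card_pos.2 ⟨none, hself none⟩
  have h𝔅c : 𝔅.card = 24 / b := by rw [h24, Nat.mul_div_cancel _ hb0]
  rw [h𝔅c] at hmod
  have : (24 / b) % p * (b % p) ≤ FB.card * (b % p) :=
    Nat.mul_le_mul_right _ (hmod ▸ Nat.mod_le _ _)
  exact absurd ((this.trans hlow).trans hle) (not_le.2 hm)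

/-- No transitive subgroup has an invariant pair at each point stabiliser, unless the order allows. -/
theorem no_pair (hH : H ≤ M24) (hT : ∀ a b : GolayPt, ∃ g ∈ H, g a = b)
    (h128 : 128 ∣ Nat.card (ptFix H x)) (h5 : 5 ∣ Nat.card (ptFix H x))
    (hor : 7 ∣ Nat.card H ∨ ∀ q, q ≠ x → ∃ g ∈ ptFix H x, g q ≠ q)
    {X : Finset GolayPt} (hX : Inv (ptFix H x) X) (hxX : x ∉ X) (h2 : X.card = 2) : False := by
  classical
  choose k hk hkx using fun y => hT x y
  set D : GolayPt → Finset GolayPt := fun y => k y • X with hD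
  have hDI : ∀ y, Inv (ptFix H y) (D y) := fun y => by
    have := inv_conj (hk y) hX
    rwa [hkx y] at this
  have hDc : ∀ y, (D y).card = 2 := fun y => by rw [hD, card_smul_finset, h2]
  have hDx : ∀ y, y ∉ D y := fun y h => hxX (by
    have h' : k y x ∈ k y • X := by rw [hkx y]; exact h
    exact apply_mem_smul_pts.1 h')
  have hcardy : ∀ y, Nat.card (ptFix H y) = Nat.card (ptFix H x) := fun y => by
    have h1 := card_orbF_of_trans hT x
    have h2 := card_orbF_of_trans hT y
    omega
  have huniq : ∀ y (Y : Finset GolayPt), Inv (ptFix H y) Y → y ∉ Y → Y.card = 2 → Y = D y := by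
    intro y Y hY hyY hY2
    obtain ⟨P⟩ := rigid23 (inf_le_left.trans hH) (fun g hg => (mem_ptFix.1 hg).2)
      (by rw [hcardy y]; exact h128 : 128 ∣ Nat.card (ptFix H y))
    exact P.eq_of_card hY (hDI y) hyY (hDx y) (hY2.trans (hDc y).symm)
  have hequiv : ∀ g ∈ H, ∀ y, g • D y = D (g y) := fun g hg y =>
    huniq _ _ (inv_conj hg (hDI y)) (fun h => hDx y (apply_mem_smul_pts.1 h))
      (by rw [card_smul_finset, hDc])
  -- the relation is symmetric
  have hsym : ∀ y z, z ∈ D y → y ∈ D z := by
    set In : GolayPt → Finset GolayPt := fun z => univ.filter fun y => z ∈ D y with hIn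
    have hinIn : ∀ g ∈ H, ∀ y z, y ∈ In z ↔ g y ∈ In (g z) := fun g hg y z => by
      simp only [hIn, mem_filter, mem_univ, true_and, ← hequiv g hg y]
      exact apply_mem_smul_pts.symm
    have hInEq : ∀ z, (In z).card = (In x).card := fun z => by
      obtain ⟨g, hg, rfl⟩ := hT x z
      refine (card_bij (fun y _ => g y) (fun y hy => (hinIn g hg y x).1 hy)
        (fun a _ c _ h => g.injective h) fun w hw => ?_).symm
      refine ⟨g.symm w, ?_, g.apply_symm_apply w⟩
      rw [hinIn g hg, g.apply_symm_apply]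
      exact hw
    have htot := sum_card_bipartiteAbove_eq_sum_card_bipartiteBelow
      (fun y z : GolayPt => z ∈ D y) (s := univ) (t := univ)
    rw [sum_const_nat (m := 2) (fun y _ => by
        rw [bipartiteAbove, filter_mem_eq_inter, univ_inter, hDc])] at htot
    have hbel : ∀ z, ((univ : Finset GolayPt).bipartiteBelow (fun y z => z ∈ D y) z).card = (In x).card :=
      fun z => (congrArg card (by ext; simp [bipartiteBelow, hIn])).trans (hInEq z)
    rw [sum_const_nat (fun z _ => hbel z), card_univ, Fintype.card_option, ZMod.card] at htot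
    intro y z hz
    have hIz : In z = D z := by
      refine huniq z _ (fun g hg q hq => ?_) ?_ (by rw [hInEq]; omega)
      · have := (hinIn g (mem_ptFix.1 hg).1 q z).1 hq
        rwa [(mem_ptFix.1 hg).2] at this
      · simp [hIn, hDx z]
    rw [← hIz]
    simp [hIn, hz]
  set C : GolayPt → Finset GolayPt := fun y => insert y (D y ∪ (D y).biUnion D) with hC
  have hCeq : ∀ g ∈ H, ∀ y, g • C y = C (g y) := by
    intro g hg y
    ext q
    obtain ⟨r, rfl⟩ := g.surjective q
    simp only [hC, apply_mem_smul_pts, mem_insert, g.injective.eq_iff, mem_union, mem_biUnion,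
      ← hequiv g hg y]
    refine or_congr Iff.rfl (or_congr Iff.rfl ⟨?_, ?_⟩)
    · rintro ⟨a, ha, hr⟩
      exact ⟨g a, apply_mem_smul_pts.2 ha, hequiv g hg a ▸ apply_mem_smul_pts.2 hr⟩
    · rintro ⟨a, ha, hr⟩
      obtain ⟨a', rfl⟩ := g.surjective a
      exact ⟨a', apply_mem_smul_pts.1 ha, apply_mem_smul_pts.1 ((hequiv g hg a').symm ▸ hr)⟩
  obtain ⟨g5, hg5, hord⟩ := exists_order (by norm_num : (5 : ℕ).Prime) h5
  have hfix4 : (fixS g5).card = 4 := fix_card (hH (mem_ptFix.1 hg5).1) (Or.inl rfl) hord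
  have hfixD : ∀ y, g5 ∈ ptFix H y → D y ⊆ fixS g5 := fun y hy =>
    subset_fix_of_small (by norm_num) hord ((hDI y).mem_iff hy) (by rw [hDc]; norm_num)
  have hfixC : ∀ y, g5 ∈ ptFix H y → C y ⊆ fixS g5 := by
    intro y hy q hq
    simp only [hC, mem_insert, mem_union, mem_biUnion] at hq
    rcases hq with rfl | hq | ⟨a, ha, hq⟩
    · exact mem_fixS.2 (mem_ptFix.1 hy).2
    · exact hfixD y hy hq
    · exact hfixD a (mem_ptFix.2 ⟨(mem_ptFix.1 hy).1, mem_fixS.1 (hfixD y hy ha)⟩) hq
  have hCc : ∀ y, (C y).card = (C x).card := fun y => by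
    obtain ⟨g, hg, rfl⟩ := hT x y
    rw [← hCeq g hg x, card_smul_finset]
  have h3 : ∀ y, (insert y (D y)).card = 3 := fun y => by
    rw [card_insert_of_notMem (hDx y), hDc]
  have hsub3 : ∀ y, insert y (D y) ⊆ C y := fun y =>
    insert_subset_insert _ subset_union_left
  have hC34 : (C x).card = 3 ∨ (C x).card = 4 := by
    have h1 := card_le_card (hfixC x hg5)
    have h2 := card_le_card (hsub3 x)
    rw [hfix4] at h1
    rw [h3] at h2
    omega
  have hCC : ∀ z ∈ C x, C z = C x := by
    intro z hz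
    rcases hC34 with h | h
    · have e : ∀ y, insert y (D y) = C y := fun y =>
        eq_of_subset_of_card_le (hsub3 y) (by rw [hCc, h, h3])
      rw [← e z]
      rw [← e x, mem_insert] at hz
      rcases hz with rfl | hz
      · exact e z
      refine eq_of_subset_of_card_le (insert_subset ?_ fun q hq => ?_) (by rw [h3, h])
      · simp [hC, hz]
      · simp only [hC, mem_insert, mem_union, mem_biUnion]
        exact Or.inr (Or.inr ⟨z, hz, hq⟩)
    · have e : C x = fixS g5 := eq_of_subset_of_card_le (hfixC x hg5) (by rw [hfix4, h])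
      have hzfix : g5 ∈ ptFix H z := mem_ptFix.2 ⟨(mem_ptFix.1 hg5).1, mem_fixS.1 (e ▸ hz)⟩
      rw [e]
      exact eq_of_subset_of_card_le (hfixC z hzfix) (by rw [hfix4, hCc, h])
  have hblock : ∀ y, ∀ z ∈ C y, C z = C y := by
    intro y z hz
    obtain ⟨g, hg, rfl⟩ := hT x y
    obtain ⟨w, rfl⟩ := g.surjective z
    rw [← hCeq g hg x] at hz ⊢
    rw [← hCeq g hg w, hCC w (apply_mem_smul_pts.1 hz)]
  have hself : ∀ y, y ∈ C y := fun y => mem_insert_self _ _
  have h5H : 5 ∣ Nat.card H := h5.trans (Subgroup.card_dvd_of_le inf_le_left)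
  rcases hC34 with h | h
  · exact no_blocks hH C hself (fun y => (hCc y).trans h) hblock hCeq (Or.inl rfl) h5H
      (by norm_num)
  rcases hor with h7 | hnofix
  · exact no_blocks hH C hself (fun y => (hCc y).trans h) hblock hCeq (Or.inr rfl) h7
      (by norm_num)
  -- the fourth point would be fixed by the whole point stabiliser
  have hIC : Inv (ptFix H x) ((C x).erase x \ D x) := fun g hg q hq => by
    obtain ⟨hgH, hgx⟩ := mem_ptFix.1 hg
    simp only [mem_sdiff, mem_erase] at hq ⊢
    refine ⟨⟨fun e => hq.1.1 (g.injective (e.trans hgx.symm)), ?_⟩,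
      fun hm => hq.2 (((hDI x).mem_iff hg q).1 hm)⟩
    have := apply_mem_smul_pts (σ := g).2 hq.1.2
    rwa [hCeq g hgH x, hgx] at this
  have h1 : ((C x).erase x \ D x).card = 1 := by
    rw [card_sdiff_of_subset, card_erase_of_mem (hself x), h, hDc]
    exact fun q hq => mem_erase.2 ⟨fun e => hDx x (e ▸ hq), by simp [hC, hq]⟩
  obtain ⟨w, hw⟩ := card_eq_one.1 h1
  have hwm : w ∈ (C x).erase x \ D x := hw ▸ mem_singleton_self w
  obtain ⟨g, hg, hne⟩ := hnofix w (mem_erase.1 (mem_sdiff.1 hwm).1).1
  exact hne (mem_singleton.1 (hw ▸ hIC g hg w hwm))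

end Cfsg.Agent.Mathieu.IndexSub
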