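import Cfsg.Agent.Lib.Mathieu.SylowTwo
import Cfsg.Agent.Lib.Mathieu.Octads

/-!
Orbits of the Sylow 2-subgroups of `M24` (an octad and its complement) and of `M23` (1, 2, 4, 16 points,
the first three making up a heptad).
-/

set_option autoImplicit false
set_option maxRecDepth 20000

namespace Cfsg.Agent.Mathieu.IndexSub

open Cfsg Finset
open scoped Pointwise

/-- Mapped into itself by every element of `H`. -/
def Inv (H : Subgroup (Equiv.Perm GolayPt)) (X : Finset GolayPt) : Prop :=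
  ∀ g ∈ H, ∀ p ∈ X, g p ∈ X

theorem Inv.mono {H K : Subgroup (Equiv.Perm GolayPt)} {X : Finset GolayPt} (h : Inv K X)
    (hHK : H ≤ K) : Inv H X := fun g hg => h g (hHK hg)

theorem Inv.mem_iff {H : Subgroup (Equiv.Perm GolayPt)} {X : Finset GolayPt} (h : Inv H X)
    {g : Equiv.Perm GolayPt} (hg : g ∈ H) (p : GolayPt) : g p ∈ X ↔ p ∈ X :=
  ⟨fun hp => by simpa using h g⁻¹ (inv_mem hg) _ hp, h g hg p⟩

theorem Inv.compl {H : Subgroup (Equiv.Perm GolayPt)} {X : Finset GolayPt} (h : Inv H X) :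
    Inv H Xᶜ := fun g hg p hp => by
  rw [mem_compl] at hp ⊢; exact fun hgp => hp ((h.mem_iff hg p).1 hgp)

/-- One round of closing a list of points under the packed generators. -/
def grow (gens L : List ℕ) : List ℕ := (L ++ L.flatMap fun i => gens.map fun l => app l i).dedup

/-- Several rounds. -/
def growN (gens : List ℕ) : ℕ → List ℕ → List ℕ
  | 0, L => L
  | n + 1, L => growN gens n (grow gens L)

/-- Every point of the mask reaches every other one, and no point leaves the mask. -/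
def orbitOK (gens : List ℕ) (m : ℕ) : Bool :=
  ((List.range 24).filter fun i => m.testBit i).all fun i =>
    let R := growN gens 6 [i]
    ((List.range 24).filter fun j => m.testBit j).all fun j => R.contains j

theorem grow_mem {C : SubgroupCert} (hgens : C.gens.all (permOK 24) = true) {Y : Finset GolayPt}
    (hY : Inv (genGroup ptEnc C.gens) Y) : ∀ (n : ℕ) (L : List ℕ),
    (∀ i ∈ L, i < 24 ∧ idx ptEnc i ∈ Y) → ∀ i ∈ growN C.gens n L, i < 24 ∧ idx ptEnc i ∈ Y := by
  intro n
  induction n with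
  | zero => intro L h; exact h
  | succ n ih =>
    intro L h
    refine ih (grow C.gens L) fun i hi => ?_
    rw [grow, List.mem_dedup, List.mem_append, List.mem_flatMap] at hi
    rcases hi with hi | ⟨j, hj, hi⟩
    · exact h i hi
    obtain ⟨l, hl, rfl⟩ := List.mem_map.1 hi
    obtain ⟨σ, hσ⟩ := exists_rep (e := ptEnc) (List.all_eq_true.1 hgens l hl)
    obtain ⟨hj24, hjY⟩ := h j hj
    refine ⟨?_, ?_⟩
    · have := hσ (idx ptEnc j)
      rw [idx_val hj24] at this
      rw [← this]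
      exact (ptEnc _).isLt
    · rw [← hσ.apply_idx hj24]
      exact hY σ (Subgroup.subset_closure ⟨l, hl, hσ⟩) _ hjY

/-- An orbit lies in an invariant set or misses it. -/
theorem orbit_dichotomy {C : SubgroupCert} (hgens : C.gens.all (permOK 24) = true) {m : ℕ}
    (hm : orbitOK C.gens m = true) {Y : Finset GolayPt} (hY : Inv (genGroup ptEnc C.gens) Y) :
    ptsOf m ⊆ Y ∨ Disjoint (ptsOf m) Y := by
  by_cases h : ∃ p ∈ ptsOf m, p ∈ Y
  · left
    obtain ⟨p, hp, hpY⟩ := h
    intro q hq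
    rw [mem_ptsOf, hasPt] at hp hq
    simp only [orbitOK, List.all_eq_true, List.mem_filter, List.mem_range, List.contains_eq_mem,
      decide_eq_true_eq] at hm
    have hidx : ∀ r : GolayPt, idx ptEnc (ptEnc r).val = r := fun r => by
      apply ptEnc.injective; ext; rw [idx_val (ptEnc r).isLt]
    have hq' := hm _ ⟨(ptEnc p).isLt, hp⟩ _ ⟨(ptEnc q).isLt, hq⟩
    have := (grow_mem hgens hY 6 [(ptEnc p).val] (by
      intro i hi
      rw [List.mem_singleton] at hi
      subst hi
      exact ⟨(ptEnc p).isLt, by rw [hidx]; exact hpY⟩) _ hq').2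
    rwa [hidx] at this
  · right
    exact disjoint_left.2 fun p hp hpY => h ⟨p, hp, hpY⟩

theorem gens24_ok : syl24.gens.all (permOK 24) = true := by decide +kernel

theorem gens23_ok : syl23.gens.all (permOK 24) = true := by decide +kernel

theorem orbits24_ok : orbitOK syl24.gens 4536592 = true ∧ orbitOK syl24.gens 12240623 = true := by
  decide +kernel

theorem orbits23_ok : orbitOK syl23.gens 32 = true ∧ orbitOK syl23.gens 5120 = true ∧
    orbitOK syl23.gens 147600 = true ∧ orbitOK syl23.gens 8235855 = true := by decide +kernel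

/-- A subgroup `S` of `H` with `p^k ∣ |S|` contains a conjugate of a given Sylow subgroup of `H`. -/
theorem exists_conj_le {H S T : Subgroup (Equiv.Perm GolayPt)} (hT : T ≤ H) (hS : S ≤ H) {k : ℕ}
    (hTc : Nat.card T = 2 ^ k) (hfac : (Nat.card H).factorization 2 = k)
    (hdvd : 2 ^ k ∣ Nat.card S) :
    ∃ h ∈ H, ∀ t ∈ T, h * t * h⁻¹ ∈ S := by
  obtain ⟨S0, hS0⟩ := Sylow.exists_subgroup_card_pow_prime (G := S) 2 hdvd
  set S1 : Subgroup H := (S0.map S.subtype).subgroupOf H with hS1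
  have hle : S0.map S.subtype ≤ H := by rintro _ ⟨x, -, rfl⟩; exact hS x.2
  have hS1c : Nat.card S1 = 2 ^ (Nat.card H).factorization 2 := by
    rw [hfac, ← hS0, hS1, Nat.card_congr (Subgroup.subgroupOfEquivOfLe hle).toEquiv,
      Nat.card_congr (Subgroup.equivMapOfInjective S0 _ S.subtype_injective).toEquiv.symm]
  have hT1c : Nat.card (T.subgroupOf H) = 2 ^ (Nat.card H).factorization 2 := by
    rw [hfac, ← hTc, Nat.card_congr (Subgroup.subgroupOfEquivOfLe hT).toEquiv]
  obtain ⟨h, hh⟩ := MulAction.exists_smul_eq H (Sylow.ofCard (T.subgroupOf H) hT1c)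
    (Sylow.ofCard S1 hS1c)
  refine ⟨h.1, h.2, fun t ht => ?_⟩
  have hmem : h * ⟨t, hT ht⟩ * h⁻¹ ∈ (Sylow.ofCard S1 hS1c : Subgroup H) := by
    rw [← hh]
    exact Subgroup.smul_mem_pointwise_smul (⟨t, hT ht⟩ : H) (MulAut.conj h) _ ht
  obtain ⟨y, -, hy⟩ := (hmem : (h * ⟨t, hT ht⟩ * h⁻¹ : H).1 ∈ S0.map S.subtype)
  rw [show h.1 * t * h.1⁻¹ = y.1 from hy.symm]
  exact y.2

theorem Inv.preimage {S T : Subgroup (Equiv.Perm GolayPt)} {h : Equiv.Perm GolayPt}
    (hST : ∀ t ∈ T, h * t * h⁻¹ ∈ S) {X : Finset GolayPt} (hX : Inv S X) :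
    Inv T (h⁻¹ • X) := by
  intro t ht p hp
  rw [mem_inv_smul_finset_iff] at hp ⊢
  have := hX _ (hST t ht) _ hp
  simpa [Equiv.Perm.smul_def] using this

theorem transfer {h : Equiv.Perm GolayPt} {P X : Finset GolayPt}
    (d : P ⊆ h⁻¹ • X ∨ Disjoint P (h⁻¹ • X)) : h • P ⊆ X ∨ Disjoint (h • P) X := by
  rcases d with d | d
  · left
    simpa using (smul_finset_subset_smul_finset_iff (a := h)).2 d
  · right
    rw [disjoint_left] at d ⊢
    intro p hp hpX
    rw [← inv_smul_mem_iff] at hp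
    exact d hp (by rw [mem_inv_smul_finset_iff]; simpa using hpX)

theorem card_syl24 : genGroup ptEnc syl24.gens ≤ M24 ∧
    Nat.card (genGroup ptEnc syl24.gens) = 2 ^ 10 := by
  obtain ⟨h1, h2, -, -⟩ := cert_group (e := ptEnc) (C := syl24) (by norm_num) mem24_sound
    (by decide +kernel)
  exact ⟨h1, by rw [h2]; decide +kernel⟩

theorem card_syl23 : genGroup ptEnc syl23.gens ≤ Spor.M23 ∧
    Nat.card (genGroup ptEnc syl23.gens) = 2 ^ 7 := by
  obtain ⟨h1, h2, -, -⟩ := cert_group (e := ptEnc) (C := syl23) (by norm_num) mem23_sound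
    (by decide +kernel)
  exact ⟨h1, by rw [h2]; decide +kernel⟩

/-- Orbits of a subgroup of `M24` of order divisible by 1024. -/
theorem rigid24 {H : Subgroup (Equiv.Perm GolayPt)} (hH : H ≤ M24) (hdvd : 1024 ∣ Nat.card H) :
    ∃ O ∈ octads, ∀ X : Finset GolayPt, Inv H X → (O ⊆ X ∨ Disjoint O X) ∧ (Oᶜ ⊆ X ∨ Disjoint Oᶜ X) := by
  obtain ⟨hT, hTc⟩ := card_syl24
  have hfac : (Nat.card M24).factorization 2 = 10 := by
    rw [card_M24, show (244823040 : ℕ) = 2 ^ 10 * 239085 by norm_num,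
      Nat.factorization_mul (by norm_num) (by norm_num), Nat.Prime.factorization_pow Nat.prime_two]
    simp [Nat.factorization_eq_zero_of_not_dvd (show ¬ 2 ∣ 239085 by norm_num)]
  obtain ⟨h, hh, hconj⟩ := exists_conj_le hT hH hTc hfac (by norm_num; exact hdvd)
  refine ⟨h • ptsOf 4536592, M24_smul_octad hh (mem_octads_iff.2 ⟨4536592, by
    rw [mem_maskList]; decide +kernel, rfl⟩), fun X hX => ?_⟩
  have hX' := hX.preimage hconj
  have hc : (h • ptsOf 4536592)ᶜ = h • ptsOf 12240623 := by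
    rw [← smul_compl_pts']
    congr 1
  rw [hc]
  exact ⟨transfer (orbit_dichotomy gens24_ok orbits24_ok.1 hX'),
    transfer (orbit_dichotomy gens24_ok orbits24_ok.2 hX')⟩
where
  smul_compl_pts' {σ : Equiv.Perm GolayPt} {s : Finset GolayPt} : σ • sᶜ = (σ • s)ᶜ := by
    ext p
    simp [← inv_smul_mem_iff]

/-- The four orbits on the points other than the fixed one. -/
structure Parts (x : GolayPt) (H : Subgroup (Equiv.Perm GolayPt)) where
  /-- the fixed point -/
  U : Finset GolayPt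
  /-- the pair -/
  D : Finset GolayPt
  /-- four points -/
  F : Finset GolayPt
  /-- sixteen points -/
  W : Finset GolayPt
  card_U : U.card = 1
  card_D : D.card = 2
  card_F : F.card = 4
  card_W : W.card = 16
  cover : ∀ p, p = x ∨ p ∈ U ∨ p ∈ D ∨ p ∈ F ∨ p ∈ W
  notMem : x ∉ U ∧ x ∉ D ∧ x ∉ F ∧ x ∉ W
  heptad : insert x (U ∪ D ∪ F) ∈ octads
  whole : ∀ X : Finset GolayPt, Inv H X →
    (U ⊆ X ∨ Disjoint U X) ∧ (D ⊆ X ∨ Disjoint D X) ∧ (F ⊆ X ∨ Disjoint F X) ∧ (W ⊆ X ∨ Disjoint W X)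

/-- Orbits of a subgroup of `M24` fixing a point, of order divisible by 128. -/
theorem rigid23 {H : Subgroup (Equiv.Perm GolayPt)} (hH : H ≤ M24) {x : GolayPt}
    (hx : ∀ g ∈ H, g x = x) (hdvd : 128 ∣ Nat.card H) : Nonempty (Parts x H) := by
  obtain ⟨hT, hTc⟩ := card_syl23
  obtain ⟨k, hk, hkx⟩ := M24_exists_map_point none x
  have hfac : (Nat.card Spor.M23).factorization 2 = 7 := by
    rw [card_M23, show (10200960 : ℕ) = 2 ^ 7 * 79695 by norm_num,
      Nat.factorization_mul (by norm_num) (by norm_num), Nat.Prime.factorization_pow Nat.prime_two]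
    simp [Nat.factorization_eq_zero_of_not_dvd (show ¬ 2 ∣ 79695 by norm_num)]
  set H' := H.map (MulAut.conj k⁻¹).toMonoidHom with hH'
  have hle : H' ≤ Spor.M23 := by
    rintro _ ⟨g, hg, rfl⟩
    refine mem_M23_iff.2 ⟨?_, ?_⟩
    · simpa using mul_mem (mul_mem (inv_mem hk) (hH hg)) hk
    · simp [hkx, hx g hg, Equiv.symm_apply_eq]
  have hcard : Nat.card H' = Nat.card H :=
    Nat.card_congr (Subgroup.equivMapOfInjective H _ (MulAut.conj k⁻¹).injective).toEquiv.symm
  obtain ⟨h, hh, hconj⟩ := exists_conj_le hT hle hTc hfac (by rw [hcard]; norm_num; exact hdvd)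
  set c := k * h with hc
  have hcM : c ∈ M24 := mul_mem hk (M23_le_M24 hh)
  have hcx : c none = x := by rw [hc, Equiv.Perm.mul_apply, (mem_M23_iff.1 hh).2, hkx]
  have hconj' : ∀ t ∈ genGroup ptEnc syl23.gens, c * t * c⁻¹ ∈ H := fun t ht => by
    obtain ⟨g, hg, hge⟩ := hconj t ht
    have hge' : k⁻¹ * g * k = h * t * h⁻¹ := by simpa using hge
    have : c * t * c⁻¹ = g := by
      rw [hc, show k * h * t * (k * h)⁻¹ = k * (h * t * h⁻¹) * k⁻¹ by group, ← hge']
      group
    rw [this]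
    exact hg
  have hu : ptsOf 32 ∪ ptsOf 5120 ∪ ptsOf 147600 ∪ ptsOf 8235855 ∪ {none} =
      (Finset.univ : Finset GolayPt) := by decide +kernel
  have hn : (none : GolayPt) ∉ ptsOf 32 ∧ (none : GolayPt) ∉ ptsOf 5120 ∧
      (none : GolayPt) ∉ ptsOf 147600 ∧ (none : GolayPt) ∉ ptsOf 8235855 := by decide +kernel
  have hmem : ∀ (P : Finset GolayPt) (p : GolayPt), c p ∈ c • P ↔ p ∈ P := fun P p =>
    apply_mem_smul_pts
  refine ⟨⟨c • ptsOf 32, c • ptsOf 5120, c • ptsOf 147600, c • ptsOf 8235855,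
    by rw [card_smul_finset, card_ptsOf]; decide +kernel,
    by rw [card_smul_finset, card_ptsOf]; decide +kernel,
    by rw [card_smul_finset, card_ptsOf]; decide +kernel,
    by rw [card_smul_finset, card_ptsOf]; decide +kernel, ?_, ?_, ?_, ?_⟩⟩
  · intro p
    obtain ⟨q, rfl⟩ := c.surjective p
    have := hu ▸ Finset.mem_univ q
    simp only [mem_union, mem_singleton] at this
    simp only [hmem, ← hcx, c.injective.eq_iff]
    tauto
  · rw [← hcx]
    simp only [hmem]
    exact hn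
  · have he : insert (none : GolayPt) (ptsOf 32 ∪ ptsOf 5120 ∪ ptsOf 147600) = ptsOf 8541360 := by
      decide +kernel
    rw [← hcx, show c none = c • (none : GolayPt) from rfl, ← smul_finset_union, ← smul_finset_union,
      ← smul_finset_insert, he]
    exact M24_smul_octad hcM (mem_octads_iff.2 ⟨8541360, by rw [mem_maskList]; decide +kernel, rfl⟩)
  · intro X hX
    have hX' := hX.preimage hconj'
    exact ⟨transfer (orbit_dichotomy gens23_ok orbits23_ok.1 hX'),
      transfer (orbit_dichotomy gens23_ok orbits23_ok.2.1 hX'),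
      transfer (orbit_dichotomy gens23_ok orbits23_ok.2.2.1 hX'),
      transfer (orbit_dichotomy gens23_ok orbits23_ok.2.2.2 hX')⟩

end Cfsg.Agent.Mathieu.IndexSub
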