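import Cfsg.Agent.Lib.Mathieu.IndexSub.Local

/-!
Small tools for the classification of subgroups of `M24` of small index.
-/

set_option autoImplicit false
set_option maxRecDepth 20000

namespace Cfsg.Agent.Mathieu.IndexSub

open Cfsg Finset
open scoped Pointwise

variable {H K : Subgroup (Equiv.Perm GolayPt)} {X Y : Finset GolayPt} {x : GolayPt}

theorem Inv.smul_eq (h : Inv H X) {g : Equiv.Perm GolayPt} (hg : g ∈ H) : g • X = X := by
  refine eq_of_subset_of_card_le (fun q hq => ?_) (card_smul_finset g X).ge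
  obtain ⟨r, rfl⟩ := g.surjective q
  exact h g hg r (apply_mem_smul_pts.1 hq)

theorem inv_of_smul (h : ∀ g ∈ H, g • X = X) : Inv H X := fun g hg p hp =>
  h g hg ▸ apply_mem_smul_pts.2 hp

theorem Inv.erase (h : Inv H X) (hx : ∀ g ∈ H, g x = x) : Inv H (X.erase x) := fun g hg p hp => by
  rw [mem_erase] at hp ⊢
  exact ⟨fun e => hp.1 (g.injective (e.trans (hx g hg).symm)), h g hg p hp.2⟩

theorem Inv.insert (h : Inv H X) (hx : ∀ g ∈ H, g x = x) : Inv H (insert x X) := fun g hg p hp => by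
  rcases mem_insert.1 hp with rfl | hp
  · rw [hx g hg]; exact mem_insert_self _ _
  · exact mem_insert_of_mem (h g hg p hp)

theorem Inv.inter (h : Inv H X) (h' : Inv H Y) : Inv H (X ∩ Y) := fun g hg p hp => by
  rw [mem_inter] at hp ⊢
  exact ⟨h g hg p hp.1, h' g hg p hp.2⟩

theorem inv_empty : Inv H ∅ := fun _ _ p hp => absurd hp (notMem_empty p)

theorem card_pts : Fintype.card GolayPt = 24 := by rw [Fintype.card_option, ZMod.card]

theorem ptFix_fix (x : GolayPt) : ∀ g ∈ ptFix H x, g x = x := fun _ hg => (mem_ptFix.1 hg).2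

theorem ptFix_le (x : GolayPt) : ptFix H x ≤ H := inf_le_left

/-- Without transitivity a subgroup of order divisible by 1024 fixes an octad. -/
theorem nontrans_octad (hH : H ≤ M24) (h1024 : 1024 ∣ Nat.card H)
    (hnt : ¬ ∀ a b : GolayPt, ∃ g ∈ H, g a = b) : ∃ O ∈ octads, ∀ g ∈ H, g • O = O := by
  push Not at hnt
  obtain ⟨a, b, hab⟩ := hnt
  obtain ⟨O, hO, hall⟩ := rigid24 hH h1024
  have hb : b ∉ orbF H a := fun h => by
    obtain ⟨g, hg, he⟩ := mem_orbF.1 h
    exact hab g hg he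
  have ha := self_mem_orbF H a
  obtain ⟨h1, h2⟩ := hall _ (inv_orbF H a)
  refine ⟨O, hO, fun g hg => ?_⟩
  rcases h1 with h1 | h1 <;> rcases h2 with h2 | h2
  · exact absurd (if h : b ∈ O then h1 h else h2 (mem_compl.2 h)) hb
  · have : orbF H a = O := Subset.antisymm
      (fun q hq => by_contra fun h => disjoint_left.1 h2 (mem_compl.2 h) hq) h1
    exact (this ▸ inv_orbF H a).smul_eq hg
  · have : orbF H a = Oᶜ := Subset.antisymm
      (fun q hq => mem_compl.2 fun h => disjoint_left.1 h1 h hq) h2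
    have h3 := (inv_orbF H a).compl
    rw [this, compl_compl] at h3
    exact h3.smul_eq hg
  · exact absurd ha (if h : a ∈ O then disjoint_left.1 h1 h else disjoint_left.1 h2 (mem_compl.2 h))

/-- The order of a subgroup fixing the points of a small set. -/
theorem card_dvd_of_fixed (hK : K ≤ M24) {s : Finset GolayPt} (hs : s.card ≤ 5)
    (hfix : ∀ g ∈ K, ∀ q ∈ s, g q = q) : Nat.card K * Nat.descFactorial 24 s.card ∣ 244823040 :=
  card_dvd_of_fix hs (s.equivFin.symm.toEmbedding.trans (Function.Embedding.subtype _)) hK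
    fun g hg i => hfix g hg _ (s.equivFin.symm i).2

/-- A property that pins down one set at each point gives an equivariant assignment. -/
theorem exists_equivariant (hT : ∀ a b : GolayPt, ∃ g ∈ H, g a = b)
    (Q : GolayPt → Finset GolayPt → Prop) (hQmap : ∀ g ∈ H, ∀ y X, Q y X → Q (g y) (g • X))
    (huniq : ∀ y X X', Q y X → Q y X' → X = X') (hX : Q x X) :
    ∃ T : GolayPt → Finset GolayPt,
      (∀ y, Q y (T y)) ∧ T x = X ∧ ∀ g ∈ H, ∀ y, g • T y = T (g y) := by
  choose k hk hkx using fun y => hT x y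
  have hQ : ∀ y, Q y (k y • X) := fun y => by
    have h := hQmap _ (hk y) x X hX
    rwa [hkx y] at h
  exact ⟨fun y => k y • X, hQ, huniq _ _ _ (hQ x) hX,
    fun g hg y => huniq _ _ _ (hQmap g hg _ _ (hQ y)) (hQ (g y))⟩

/-- Block property at one point spreads over the orbit. -/
theorem blocks_of_one (hT : ∀ a b : GolayPt, ∃ g ∈ H, g a = b) {T : GolayPt → Finset GolayPt}
    (hg : ∀ g ∈ H, ∀ y, g • T y = T (g y)) (h1 : ∀ z ∈ T x, T z = T x) :
    ∀ y, ∀ z ∈ T y, T z = T y := by
  intro y z hz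
  obtain ⟨g, hgH, rfl⟩ := hT x y
  obtain ⟨w, rfl⟩ := g.surjective z
  rw [← hg g hgH x] at hz ⊢
  rw [← hg g hgH w, h1 w (apply_mem_smul_pts.1 hz)]

theorem ptFix_eq_of_le (hT : ∀ a b : GolayPt, ∃ g ∈ H, g a = b) {a b : GolayPt}
    (h : ptFix H a ≤ ptFix H b) : ptFix H a = ptFix H b := by
  refine Subgroup.eq_of_le_of_card_ge h ?_
  have := card_orbF_of_trans hT a
  have := card_orbF_of_trans hT b
  omega

theorem card_ptFix_of_trans (hT : ∀ a b : GolayPt, ∃ g ∈ H, g a = b) {m : ℕ}
    (hm : Nat.card H = 24 * m) (a : GolayPt) : Nat.card (ptFix H a) = m := by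
  have := card_orbF_of_trans hT a
  omega

end Cfsg.Agent.Mathieu.IndexSub
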